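import Groth.Prelude.Def_Coh
import Groth.Prelude.Def_ClSub2
import Mathlib.AlgebraicGeometry.IdealSheaf.Functorial
import Mathlib.AlgebraicGeometry.Restrict

/-!
# Patching squares

`IsPatch b I` for `b : X' ⟶ X` and an ideal `I` of `X`: `b` is an isomorphism over the complement of `V(I)`, the
map `I(U) ⟶ Γ(b⁻¹ U, I · O_X')` is bijective for every affine open `U` (this says that
`O_X = b_* O_X' ×_{b_* O_Z'} O_Z` for `Z = V(I)`, `Z' = V(I · O_X')`), and the higher cohomology of the positive powers of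
`I · O_X'` vanishes over the affine opens of `X`.  These are the hypotheses under which line bundles on `X` are
the same as triples `(L', M, φ)` with `L'` on `X'`, `M` on `Z`, `φ : L'|Z' ≅ M|Z'`.
-/

set_option autoImplicit false
universe u

open CategoryTheory AlgebraicGeometry Opposite

namespace Groth.Agent.Pic13.H17.Patch

/-- The section `a` of `O_X'` over `V` belongs to the ideal `J`. -/
def Mem {X : Scheme.{u}} (J : X.IdealSheafData) {V : X.Opens} (a : Γ(X, V)) : Prop :=
  ∀ (W : X.affineOpens) (hW : W.1 ≤ V), X.presheaf.map (homOfLE hW).op a ∈ J.ideal W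

/-- The square `V(I · O_X') ⟶ V(I)` over `b : X' ⟶ X` is a patching square. -/
structure IsPatch {X X' : Scheme.{u}} (b : X' ⟶ X) (I : X.IdealSheafData) : Prop where
  iso : IsIso (b ∣_ I.support.compl)
  m1 : ∀ (U : X.affineOpens) (a : Γ(X', b ⁻¹ᵁ U.1)), Mem (I.comap b) a →
    ∃! c : Γ(X, U.1), c ∈ I.ideal U ∧ b.app U.1 c = a
  m2 : ∀ (U : X.affineOpens) (j m : ℕ), 0 < j → 0 < m →
    Subsingleton (Coh.HHon X' (ClSub.idealMod ((I.comap b) ^ m)) (b ⁻¹ᵁ U.1) j)

end Groth.Agent.Pic13.H17.Patch
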