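import Groth.Agent.S0025
import Groth.Agent.S1274
import Groth.Agent.S1496
import Groth.Agent.S2331
import Groth.Agent.S2333
import Groth.Agent.S2348
import Groth.Agent.Flat2C.BlowProper
import Groth.Agent.Ega1.AmpFamBlow
import Groth.Agent.Dix.ProjProper
import Mathlib.AlgebraicGeometry.ZariskisMainTheorem

/-!
# Chow's lemma in blow-up form

`exists_blowUp_dense`: a scheme `X` proper over a Noetherian scheme `S` with an ample module has an ideal of
finite type, with support disjoint from a dense open, whose blow-up is a closed subscheme of some `P^n_S`.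
`exists_blowUp`: for `X` integral the ideal is nonzero and the blow-up is integral.
-/

set_option autoImplicit false
universe u

open CategoryTheory CategoryTheory.Limits AlgebraicGeometry

namespace Groth.Agent.Pic13.H17.ChowBlow

/-- The exceptional ideal of a blow-up is relatively ample. -/
theorem isRelAmple_exceptional {X X' : Scheme.{u}} {J : X.IdealSheafData} {b : X' ⟶ X}
    (hb : BlowUp.IsBlowUp b J) [QuasiCompact b] :
    RelAmple.IsRelAmple b (ClSub.idealMod (J.comap b)) :=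
  ⟨inferInstance, fun V => Groth.Agent.Ega1.AmpFamBlow.isAmple_restrict hb V _ rfl⟩

/-- **Chow's lemma in blow-up form**, general case. -/
theorem exists_blowUp_dense {X S : Scheme.{u}} [IsNoetherian S]
    (hS : ∃ N : S.Modules, CohB1.IsAmple N) (f : X ⟶ S) [IsProper f] :
    ∃ (𝓘 : X.IdealSheafData) (X' : Scheme.{u}) (b : X' ⟶ X) (n : ℕ)
      (j : X' ⟶ CohB1.ProjSpaceOver n S) (U : X.Opens),
      Dense (U : Set X) ∧ Disjoint (𝓘.support : Set X) (U : Set X) ∧ BlowUp.IsBlowUp b 𝓘 ∧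
      BlowUp.IsFiniteTypeIdeal 𝓘 ∧ IsProper b ∧ IsClosedImmersion j ∧
      j ≫ CohB1.ProjSpaceOver.toBase n S = b ≫ f := by
  have hN : IsLocallyNoetherian X := LocallyOfFiniteType.isLocallyNoetherian f
  have hc : CompactSpace X := QuasiCompact.compactSpace_of_compactSpace f
  have hN' : IsNoetherian X := {}
  obtain ⟨n, X₁, π, j, hj, hjf, hπ, hs, U, hU, hiso⟩ := Groth.Agent.S0025.result f
  have hUc : IsCompact (U : Set X) := TopologicalSpace.NoetherianSpace.isCompact _
  obtain ⟨𝓘, X', b, hb, hadm, h, hh⟩ := Groth.Agent.S1274.result π U hUc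
  have hbp : IsProper b := Groth.Agent.Flat2C.BlowProper.isProper_of_isBlowUp hb hadm.1
  have hjp : IsProper (j ≫ CohB1.ProjSpaceOver.toBase n S) := by
    rw [hjf]; infer_instance
  have hpr : IsProper (CohB1.ProjSpaceOver.toBase n S) := Groth.Agent.Dix.ProjProper.isProper_toBase n S
  have hj' : IsProper j := IsProper.of_comp j (CohB1.ProjSpaceOver.toBase n S)
  have hjc : IsClosedImmersion j :=
    (IsClosedImmersion.iff_isProper_and_mono j).mpr ⟨hj', inferInstance⟩
  have h1 := Groth.Agent.S1496.result hS (π ≫ f)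
  obtain ⟨-, K, hK⟩ := h1.2.mp (h1.1.mp ⟨n, j, hjc, hjf⟩)
  have hhp : IsProper h := by
    have : IsProper (h ≫ π) := by rw [hh]; infer_instance
    exact IsProper.of_comp h π
  have h2 : RelAmple.IsRelAmple (h ≫ π) (ClSub.idealMod (𝓘.comap b)) := by
    rw [hh]
    exact isRelAmple_exceptional hb
  have h3 := Groth.Agent.S2333.result h π _ h2
  obtain ⟨n₀, -, hn₀⟩ := Groth.Agent.S2331.result h (π ≫ f) _ K h3 hK
  have h4 := hn₀ n₀ le_rfl
  have h5 := Groth.Agent.S1496.result hS (b ≫ f)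
  have h6 : h ≫ π ≫ f = b ≫ f := by rw [← Category.assoc, hh]
  rw [h6] at h4
  obtain ⟨m, i, hi, hif⟩ := h5.1.mpr (h5.2.mpr ⟨inferInstance, _, h4⟩)
  exact ⟨𝓘, X', b, m, i, U, hU, hadm.2, hb, hadm.1, hbp, hi, hif⟩

/-- **Chow's lemma in blow-up form.** -/
theorem exists_blowUp {X S : Scheme.{u}} [IsIntegral X] [IsNoetherian S]
    (hS : ∃ N : S.Modules, CohB1.IsAmple N) (f : X ⟶ S) [IsProper f] :
    ∃ (𝓘 : X.IdealSheafData) (X' : Scheme.{u}) (b : X' ⟶ X) (n : ℕ)
      (j : X' ⟶ CohB1.ProjSpaceOver n S), 𝓘 ≠ ⊥ ∧ BlowUp.IsBlowUp b 𝓘 ∧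
      BlowUp.IsFiniteTypeIdeal 𝓘 ∧ IsIntegral X' ∧ IsProper b ∧ IsClosedImmersion j ∧
      j ≫ CohB1.ProjSpaceOver.toBase n S = b ≫ f := by
  obtain ⟨𝓘, X', b, n, j, U, hU, hdis, hb, hft, hbp, hj, hjf⟩ := exists_blowUp_dense hS f
  have h𝓘 : 𝓘 ≠ ⊥ := by
    rintro rfl
    rw [Scheme.IdealSheafData.support_bot] at hdis
    obtain ⟨x, hx⟩ := hU.nonempty
    exact Set.disjoint_left.mp hdis trivial hx
  obtain ⟨hint, -, -⟩ := Groth.Agent.S2348.result 𝓘 h𝓘 b hb
  exact ⟨𝓘, X', b, n, j, h𝓘, hb, hft, hint, hbp, hj, hjf⟩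

end Groth.Agent.Pic13.H17.ChowBlow
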