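import Groth.Agent.Pic13.H17.Patch
import Groth.Agent.Ega1.IdealGen
import Groth.Agent.Ega1.QcqsPush
import Groth.Agent.Divis.IdealComap

/-!
# The condition (M1) for patching squares may be checked on an affine open cover of the base
-/

set_option autoImplicit false
universe u

open CategoryTheory CategoryTheory.Limits AlgebraicGeometry Opposite TopologicalSpace

namespace Groth.Agent.Pic13.H17.PatchM1

open Groth.Agent.Pic13.H17.Patch Groth.Agent.Fdesc.LocGen Groth.Agent.PerfA.IdealModule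
  Groth.Agent.Ega1.IdealGen Groth.Agent.CohqB

variable {X X' : Scheme.{u}} (b : X' ⟶ X) (I : X.IdealSheafData)

/-- (M1) over one affine open of the base. -/
def M1 (U : X.affineOpens) : Prop :=
  ∀ a : Γ(X', b ⁻¹ᵁ U.1), Mem (I.comap b) a → ∃! c : Γ(X, U.1), c ∈ I.ideal U ∧ b.app U.1 c = a

theorem mem_ores {E : X.IdealSheafData} {V W : X.Opens} (h : W ≤ V) {a : Γ(X, V)} (ha : Mem E a) :
    Mem E (ores h a) := by
  intro A hA
  have h1 := ha A (hA.trans h)
  have h2 : X.presheaf.map (homOfLE (hA.trans h)).op a = ores hA (ores h a) :=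
    (ores_ores h hA a).symm
  rw [h2] at h1
  exact h1

theorem mem_iff {E : X.IdealSheafData} {V : X.Opens} {a : Γ(X, V)} :
    Mem E a ↔ ∃ t : Γ(ClSub.idealMod E, V), val E t = a := by
  constructor
  · exact exists_val_eq_of_forall E a
  · rintro ⟨t, rfl⟩ A hA
    have h1 := val_mem E A (res _ hA t)
    rw [val_res'] at h1
    exact h1

theorem mem_zero {E : X.IdealSheafData} {V : X.Opens} : Mem E (0 : Γ(X, V)) :=
  mem_iff.2 ⟨0, val_zero E⟩

theorem mem_app {U : X.affineOpens} {c : Γ(X, U.1)} (hc : c ∈ I.ideal U) :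
    Mem (I.comap b) (b.app U.1 c) := by
  intro A hA
  rw [Groth.Agent.Divis.IdealComap.ideal_comap I b U A hA]
  have h1 : X'.presheaf.map (homOfLE hA).op (b.app U.1 c) = (b.appLE U.1 A.1 hA).hom c := by
    rw [Scheme.Hom.appLE]
    rfl
  rw [h1]
  exact Ideal.mem_map_of_mem _ hc

theorem app_ores {U V : X.Opens} (h : V ≤ U) (c : Γ(X, U)) :
    b.app V (ores h c) = ores (b.preimage_mono h) (b.app U c) :=
  congr($(b.naturality (homOfLE h).op) c)

theorem ores_mem {U V : X.affineOpens} (h : V.1 ≤ U.1) {c : Γ(X, U.1)} (hc : c ∈ I.ideal U) :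
    ores h c ∈ I.ideal V := ores_mem_ideal I h hc

theorem isUnit_ores_basicOpen {U : X.Opens} (g : Γ(X, U)) : IsUnit (ores (X.basicOpen_le g) g) :=
  X.toRingedSpace.isUnit_res_basicOpen g

variable {I}

theorem uniq {U : X.affineOpens} (h : M1 b I U) {c : Γ(X, U.1)} (hc : c ∈ I.ideal U)
    (h0 : b.app U.1 c = 0) : c = 0 :=
  (h 0 mem_zero).unique ⟨hc, h0⟩ ⟨Ideal.zero_mem _, map_zero _⟩

theorem m1_of {U : X.affineOpens}
    (hex : ∀ a : Γ(X', b ⁻¹ᵁ U.1), Mem (I.comap b) a → ∃ c ∈ I.ideal U, b.app U.1 c = a)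
    (hun : ∀ c ∈ I.ideal U, b.app U.1 c = 0 → c = 0) : M1 b I U := by
  intro a ha
  obtain ⟨c, hc, hca⟩ := hex a ha
  refine ⟨c, ⟨hc, hca⟩, ?_⟩
  rintro d ⟨hd, hda⟩
  refine sub_eq_zero.mp (hun _ (Ideal.sub_mem _ hd hc) ?_)
  change (b.app U.1).hom (d - c) = 0
  rw [map_sub, sub_eq_zero]
  exact hda.trans hca.symm

/-- The inclusion of an affine basic open. -/
theorem abo_le {U : X.affineOpens} (g : Γ(X, U.1)) : (X.affineBasicOpen g).1 ≤ U.1 := X.basicOpen_le g

theorem isUnit_abo {U : X.affineOpens} (g : Γ(X, U.1)) : IsUnit (ores (abo_le g) g) :=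
  isUnit_ores_basicOpen g

/-- A section of the direct image of the ideal module killed on a basic open is killed by a power. -/
theorem exists_pow_eq_zero [QuasiCompact b] [QuasiSeparated b] {U : X.affineOpens}
    (g : Γ(X, U.1)) {y : Γ(X', b ⁻¹ᵁ U.1)} (hy : Mem (I.comap b) y)
    (h0 : ores (b.preimage_mono (abo_le g)) y = 0) : ∃ k : ℕ, b.app U.1 g ^ k * y = 0 := by
  have hN : Coh.IsQCoh ((Scheme.Modules.pushforward b).obj (ClSub.idealMod (I.comap b))) :=
    Groth.Agent.Ega1.QcqsPush.isQCoh_pushforward b _ (isQCoh_idealMod _)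
  have hloc := (QC2.isQuasicoherent_iff_loc _).1 hN U.1 U.2
  obtain ⟨t, rfl⟩ := mem_iff.1 hy
  have h1 : QC2.res ((Scheme.Modules.pushforward b).obj (ClSub.idealMod (I.comap b)))
      (X.basicOpen_le g) t = 0 := by
    apply val_injective (I.comap b) (b ⁻¹ᵁ (X.basicOpen g))
    refine (val_res' (I.comap b) (b.preimage_mono (X.basicOpen_le g)) t).trans ?_
    exact h0.trans (val_zero (I.comap b)).symm
  obtain ⟨k, hk⟩ := hloc.eq_zero g t h1
  refine ⟨k, ?_⟩
  have h2 := congrArg (val (I.comap b) (V := b ⁻¹ᵁ U.1)) hk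
  have h3 : val (I.comap b) (V := b ⁻¹ᵁ U.1) (b.app U.1 (g ^ k) • t) = 0 :=
    h2.trans (val_zero (I.comap b))
  rw [val_smul, map_pow] at h3
  exact h3

/-- Lifting a section from a basic open. -/
theorem exists_lift [QuasiCompact b] [QuasiSeparated b] {U : X.affineOpens}
    (g : Γ(X, U.1)) {y : Γ(X', b ⁻¹ᵁ (X.affineBasicOpen g).1)} (hy : Mem (I.comap b) y) :
    ∃ (n : ℕ) (z : Γ(X', b ⁻¹ᵁ U.1)), Mem (I.comap b) z ∧
      ores (b.preimage_mono (abo_le g)) z =
        b.app (X.affineBasicOpen g).1 (ores (abo_le g) g ^ n) * y := by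
  have hN : Coh.IsQCoh ((Scheme.Modules.pushforward b).obj (ClSub.idealMod (I.comap b))) :=
    Groth.Agent.Ega1.QcqsPush.isQCoh_pushforward b _ (isQCoh_idealMod _)
  have hloc := (QC2.isQuasicoherent_iff_loc _).1 hN U.1 U.2
  obtain ⟨t, rfl⟩ := mem_iff.1 hy
  obtain ⟨n, t', ht'⟩ := hloc.exists_lift g t
  refine ⟨n, val (I.comap b) (V := b ⁻¹ᵁ U.1) t', mem_iff.2 ⟨t', rfl⟩, ?_⟩
  have h1 : res (ClSub.idealMod (I.comap b)) (b.preimage_mono (abo_le g))
      (show Γ(ClSub.idealMod (I.comap b), b ⁻¹ᵁ U.1) from t') =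
      (b.app (X.affineBasicOpen g).1 (ores (abo_le g) g ^ n)) • t := ht'
  have h2 := congrArg (val (I.comap b)) h1
  rw [val_res', val_smul] at h2
  exact h2

/-- (M1) passes to basic opens. -/
theorem m1_basicOpen [QuasiCompact b] [QuasiSeparated b] {U : X.affineOpens} (h : M1 b I U)
    (g : Γ(X, U.1)) : M1 b I (X.affineBasicOpen g) := by
  have hunit := isUnit_abo g
  refine m1_of b (fun a ha => ?_) (fun c hc h0 => ?_)
  · obtain ⟨n, z, hz, hza⟩ := exists_lift b g ha
    obtain ⟨c, ⟨hc, rfl⟩, -⟩ := h z hz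
    obtain ⟨v, hv⟩ := (hunit.pow n).exists_left_inv
    refine ⟨v * ores (abo_le g) c, Ideal.mul_mem_left _ _ (ores_mem I (abo_le g) hc), ?_⟩
    have h1 : b.app (X.affineBasicOpen g).1 (ores (abo_le g) c) =
        b.app (X.affineBasicOpen g).1 (ores (abo_le g) g ^ n) * a := (app_ores b (abo_le g) c).trans hza
    change (b.app (X.affineBasicOpen g).1).hom (v * ores (abo_le g) c) = a
    rw [map_mul]
    change (b.app (X.affineBasicOpen g).1).hom v * b.app (X.affineBasicOpen g).1 (ores (abo_le g) c) = a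
    rw [h1, ← mul_assoc]
    change (b.app (X.affineBasicOpen g).1).hom v *
      (b.app (X.affineBasicOpen g).1).hom (ores (abo_le g) g ^ n) * a = a
    rw [← map_mul, hv, map_one, one_mul]
  · obtain ⟨s, rfl⟩ := exists_val_eq I (X.affineBasicOpen g) hc
    obtain ⟨n, s', hs'⟩ := (loc_idealMod I U).exists_lift g s
    have h1 : ores (abo_le g) (val I s') = ores (abo_le g) g ^ n * val I s := by
      have h5 : res (ClSub.idealMod I) (abo_le g) s' = (ores (abo_le g) g ^ n) • s := hs'
      have h6 := congrArg (val I) h5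
      rw [val_res', val_smul] at h6
      exact h6
    have h2 : ores (b.preimage_mono (abo_le g)) (b.app U.1 (val I s')) = 0 := by
      rw [← app_ores b (abo_le g), h1]
      change (b.app (X.affineBasicOpen g).1).hom (ores (abo_le g) g ^ n * val I s) = 0
      rw [map_mul]
      change _ * b.app (X.affineBasicOpen g).1 (val I s) = 0
      rw [h0, mul_zero]
    obtain ⟨k, hk⟩ := exists_pow_eq_zero b g (mem_app b I (val_mem I U s')) h2
    have h3 : g ^ k * val I s' = 0 := by
      refine uniq b h (Ideal.mul_mem_left _ _ (val_mem I U s')) ?_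
      change (b.app U.1).hom (g ^ k * val I s') = 0
      rw [map_mul, map_pow]
      exact hk
    have h4 := congrArg (ores (abo_le g)) h3
    rw [map_mul, map_pow, map_zero, h1, ← mul_assoc, ← pow_add] at h4
    exact (hunit.pow (k + n)).mul_right_eq_zero.mp h4

/-- (M1) may be checked on basic opens generating the unit ideal. -/
theorem m1_openCover [QuasiCompact b] [QuasiSeparated b] {U : X.affineOpens}
    (s : Finset Γ(X, U.1)) (hs : Ideal.span (s : Set Γ(X, U.1)) = ⊤)
    (h : ∀ f : s, M1 b I (X.affineBasicOpen f.1)) : M1 b I U := by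
  have hcov : U.1 ≤ ⨆ f : s, (X.affineBasicOpen f.1).1 := by
    have h1 := (IsAffineOpen.iSup_basicOpen_eq_self_iff U.2 (s := (s : Set Γ(X, U.1)))).2 hs
    exact h1.ge
  have hcov' : b ⁻¹ᵁ U.1 ≤ ⨆ f : s, b ⁻¹ᵁ (X.affineBasicOpen f.1).1 := by
    rw [← Scheme.Hom.preimage_iSup]
    exact b.preimage_mono hcov
  refine m1_of b (fun a ha => ?_) (fun c hc h0 => ?_)
  · choose x hx using fun f : s => (h f (ores (b.preimage_mono (abo_le f.1)) a)
      (mem_ores _ ha)).exists
    choose t ht using fun f : s => exists_val_eq I (X.affineBasicOpen f.1) (hx f).1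
    obtain ⟨w, hw⟩ := res_glue (ClSub.idealMod I) (fun f : s => (X.affineBasicOpen f.1).1)
      (fun f => abo_le f.1) hcov t (by
        intro f₁ f₂
        let W : X.affineOpens := X.affineBasicOpen (U := X.affineBasicOpen f₁.1) (ores (abo_le f₁.1) f₂.1)
        have hW : W.1 = (X.affineBasicOpen f₁.1).1 ⊓ (X.affineBasicOpen f₂.1).1 :=
          X.basicOpen_res _ _
        have hm : M1 b I W := m1_basicOpen b (h f₁) _
        have h1 : W.1 ≤ (X.affineBasicOpen f₁.1).1 := hW.le.trans inf_le_left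
        have h2 : W.1 ≤ (X.affineBasicOpen f₂.1).1 := hW.le.trans inf_le_right
        apply val_injective
        refine ores_ext (fun _ : Unit => W.1) (fun _ => hW.le) (by rw [iSup_const]; exact hW.ge)
          fun _ => ?_
        rw [val_res', val_res', ores_ores, ores_ores, ← sub_eq_zero, ht, ht]
        refine uniq b hm (Ideal.sub_mem _ (ores_mem I h1 (hx f₁).1) (ores_mem I h2 (hx f₂).1)) ?_
        have h3 := app_ores b h1 (x f₁)
        have h4 := app_ores b h2 (x f₂)
        rw [(hx f₁).2, ores_ores] at h3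
        rw [(hx f₂).2, ores_ores] at h4
        change (b.app W.1).hom (ores h1 (x f₁) - ores h2 (x f₂)) = 0
        rw [map_sub]
        change b.app W.1 (ores h1 (x f₁)) - b.app W.1 (ores h2 (x f₂)) = 0
        rw [h3, h4, sub_self])
    refine ⟨val I w, val_mem I U w, ?_⟩
    refine ores_ext (fun f : s => b ⁻¹ᵁ (X.affineBasicOpen f.1).1)
      (fun f => b.preimage_mono (abo_le f.1)) hcov' fun f => ?_
    rw [← app_ores b (abo_le f.1), ← val_res', hw, ht]
    exact (hx f).2
  · refine ores_ext (fun f : s => (X.affineBasicOpen f.1).1) (fun f => abo_le f.1) hcov fun f => ?_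
    rw [map_zero]
    refine uniq b (h f) (ores_mem I (abo_le f.1) hc) ?_
    rw [app_ores, h0, map_zero]

/-- **(M1) may be checked on an affine open cover of the base.** -/
theorem m1_of_cover [QuasiCompact b] [QuasiSeparated b] {ι : Type*} (U : ι → X.affineOpens)
    (hU : (⨆ i, (U i).1) = ⊤) (h : ∀ i, M1 b I (U i)) (V : X.affineOpens) : M1 b I V :=
  of_affine_open_cover (P := fun V => M1 b I V) U hU V (fun _ g h => m1_basicOpen b h g)
    (fun _ s hs h => m1_openCover b s hs h) h

end Groth.Agent.Pic13.H17.PatchM1
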