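import Groth.Agent.Pic13.H17.BlowPow
import Groth.Agent.Pic13.H17.PatchM1
import Groth.Agent.Pic13.H17.ChowBlow
import Groth.Agent.S0055
import Groth.Agent.S1682
import Groth.Agent.Sga2.ThickCoh
import Groth.Agent.Ega3B.RpushAff

/-!
# Blow-ups give patching squares

`isPatch_of_isBlowUp`: `X` Noetherian, `b : X' ⟶ X` the blow-up of the ideal `𝓘`; then `IsPatch b (𝓘 ^ n)` for all large
`n`.  `exists_patch_blowUp`: Chow's lemma in blow-up form with patching squares.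
-/

set_option autoImplicit false
universe u

open CategoryTheory CategoryTheory.Limits AlgebraicGeometry Opposite TopologicalSpace

namespace Groth.Agent.Pic13.H17.BlowPatch

open Groth.Agent.Pic13.H17.Patch Groth.Agent.Pic13.H17.PatchM1 Groth.Agent.CohqB

variable {X X' : Scheme.{u}} {b : X' ⟶ X} {J : X.IdealSheafData}

/-- **(M2)** for the powers of the exceptional ideal of a blow-up. -/
theorem exists_m2 [IsNoetherian X] [IsProper b] (hb : BlowUp.IsBlowUp b J) :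
    ∃ n₀ : ℕ, ∀ n, n₀ ≤ n → ∀ (U : X.affineOpens) (j : ℕ), 0 < j →
      Subsingleton (Coh.HHon X' (ClSub.idealMod ((J.comap b) ^ n)) (b ⁻¹ᵁ U.1) j) := by
  obtain ⟨n₀, hn₀⟩ := Groth.Agent.S0055.result b (ClSub.idealMod (J.comap b))
    (Groth.Agent.Ega1.IdealGen.isInvertible_idealMod _ hb.1)
    (fun W hW => Groth.Agent.Ega1.AmpFamBlow.isAmple_restrict hb ⟨W, hW⟩ _ rfl)
    (Coh.structureModule X') (CurvesC.UnitCoh.isCoh_unit X')
  refine ⟨n₀, fun n hn U j hj => ?_⟩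
  obtain ⟨e⟩ := Groth.Agent.Sga2.ThickCoh.idealMod_pow hb.1 n
  have h1 := (Ega3B.RpushAbCmp.isZero_RpushAb_iff b _ j).1 (hn₀ n hn j hj)
  have h2 : IsZero ((Coh.Rpush b j).obj (ClSub.idealMod ((J.comap b) ^ n))) :=
    h1.of_iso ((Coh.Rpush b j).mapIso (Ega2.Tens.lunit _ ≪≫ e)).symm
  exact Ega3B.RpushAff.subsingleton_HHon_of_isZero b _
    (Groth.Agent.PerfA.IdealModule.isQCoh_idealMod _) U.2 j h2

/-- **(M1)** for the powers of the exceptional ideal of a blow-up. -/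
theorem exists_m1 [IsNoetherian X] [IsProper b] (hb : BlowUp.IsBlowUp b J) :
    ∃ n₀ : ℕ, ∀ n, n₀ ≤ n → ∀ U : X.affineOpens, M1 b (J ^ n) U := by
  have key : ∀ U : X.affineOpens, ∃ n₀ : ℕ, ∀ n, n₀ ≤ n → M1 b (J ^ n) U := by
    intro U
    have hN : IsNoetherianRing Γ(X, U.1) := IsLocallyNoetherian.component_noetherian U
    obtain ⟨n₀, hn₀⟩ := BlowPow.exists_m1 U hb
    refine ⟨n₀, fun n hn a ha => ?_⟩
    rw [Groth.Agent.Divis.IdealComap.comap_pow] at ha
    have h1 : (J ^ n).ideal U = (J.ideal U) ^ n := by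
      rw [Scheme.IdealSheafData.ideal_pow, Pi.pow_apply]
    rw [h1]
    exact hn₀ n hn a ha
  choose N hN using key
  let W : X → X.affineOpens := fun x =>
    ⟨(exists_isAffineOpen_mem_and_subset (x := x) (U := ⊤) trivial).choose,
      (exists_isAffineOpen_mem_and_subset (x := x) (U := ⊤) trivial).choose_spec.1⟩
  have hW : ∀ x, x ∈ (W x).1 := fun x =>
    (exists_isAffineOpen_mem_and_subset (x := x) (U := ⊤) trivial).choose_spec.2.1
  obtain ⟨t, ht⟩ := CompactSpace.elim_nhds_subcover (X := X) (fun x => ((W x).1 : Set X))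
    (fun x => (W x).1.isOpen.mem_nhds (hW x))
  refine ⟨t.sup fun x => N (W x), fun n hn U => ?_⟩
  refine m1_of_cover b (fun x : t => W x.1) ?_ (fun x => hN _ n
    ((Finset.le_sup (f := fun x => N (W x)) x.2).trans hn)) U
  rw [eq_top_iff]
  intro x _
  have hx : x ∈ ⋃ y ∈ t, ((W y).1 : Set X) := by
    rw [show (⋃ y ∈ t, ((W y).1 : Set X)) = ⊤ from ht]
    trivial
  simp only [Set.mem_iUnion] at hx
  obtain ⟨y, hy, hxy⟩ := hx
  exact Opens.mem_iSup.mpr ⟨⟨y, hy⟩, hxy⟩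

/-- **Blow-ups give patching squares.** -/
theorem isPatch_of_isBlowUp [IsNoetherian X] [IsProper b] (hb : BlowUp.IsBlowUp b J) :
    ∃ n₀ : ℕ, 0 < n₀ ∧ ∀ n, n₀ ≤ n → IsPatch b (J ^ n) := by
  obtain ⟨N₁, hN₁⟩ := exists_m1 hb
  obtain ⟨N₂, hN₂⟩ := exists_m2 hb
  refine ⟨N₁ + N₂ + 1, by omega, fun n hn => ⟨?_, fun U a ha => hN₁ n (by omega) U a ha,
    fun U j m hj hm => ?_⟩⟩
  · rw [Scheme.IdealSheafData.support_pow _ _ (show n ≠ 0 by omega)]
    exact Groth.Agent.S1682.result J b hb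
  · rw [Groth.Agent.Divis.IdealComap.comap_pow, ← pow_mul]
    exact hN₂ (n * m) ((show N₂ ≤ n by omega).trans (Nat.le_mul_of_pos_right n hm)) U j hj

theorem isFiniteTypeIdeal [IsLocallyNoetherian X] (I : X.IdealSheafData) : BlowUp.IsFiniteTypeIdeal I := by
  intro U
  have hN : IsNoetherianRing Γ(X, U.1) := IsLocallyNoetherian.component_noetherian U
  exact IsNoetherian.noetherian _

/-- **Chow's lemma with patching squares**, general case: `X` proper over a Noetherian scheme `S` with an ample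
module. -/
theorem exists_patch_dense {X S : Scheme.{u}} [IsNoetherian S]
    (hS : ∃ N : S.Modules, CohB1.IsAmple N) (f : X ⟶ S) [IsProper f] :
    ∃ (I : X.IdealSheafData) (X' : Scheme.{u}) (b : X' ⟶ X) (n : ℕ)
      (j : X' ⟶ CohB1.ProjSpaceOver n S) (U : X.Opens),
      Dense (U : Set X) ∧ Disjoint (I.support : Set X) (U : Set X) ∧
      (∀ m, 0 < m → IsPatch b (I ^ m)) ∧ BlowUp.IsEffCartierIdeal (I.comap b) ∧
      BlowUp.IsFiniteTypeIdeal I ∧ IsProper b ∧ IsClosedImmersion j ∧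
      j ≫ CohB1.ProjSpaceOver.toBase n S = b ≫ f := by
  obtain ⟨J, X', b, n, j, U, hU, hd, hb, hft, hbp, hj, hjf⟩ := ChowBlow.exists_blowUp_dense hS f
  have hN : IsLocallyNoetherian X := LocallyOfFiniteType.isLocallyNoetherian f
  have hc : CompactSpace X := QuasiCompact.compactSpace_of_compactSpace f
  have hN' : IsNoetherian X := {}
  obtain ⟨n₀, hpos, hn₀⟩ := isPatch_of_isBlowUp hb
  refine ⟨J ^ n₀, X', b, n, j, U, hU, ?_, fun m hm => ?_, ?_, isFiniteTypeIdeal _, hbp, hj, hjf⟩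
  · rwa [Scheme.IdealSheafData.support_pow _ _ (show n₀ ≠ 0 by omega)]
  · rw [← pow_mul]
    exact hn₀ _ (Nat.le_mul_of_pos_right n₀ hm)
  · rw [Groth.Agent.Divis.IdealComap.comap_pow]
    exact Groth.Agent.Sga2.ThickCoh.isEffCartierIdeal_pow hb.1 n₀

/-- **Chow's lemma with patching squares**, for `X` integral. -/
theorem exists_patch {X S : Scheme.{u}} [IsIntegral X] [IsNoetherian S]
    (hS : ∃ N : S.Modules, CohB1.IsAmple N) (f : X ⟶ S) [IsProper f] :
    ∃ (I : X.IdealSheafData) (X' : Scheme.{u}) (b : X' ⟶ X) (n : ℕ)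
      (j : X' ⟶ CohB1.ProjSpaceOver n S), I ≠ ⊥ ∧ (I.support : Set X) ≠ Set.univ ∧
      (∀ m, 0 < m → IsPatch b (I ^ m)) ∧ BlowUp.IsEffCartierIdeal (I.comap b) ∧
      BlowUp.IsFiniteTypeIdeal I ∧ IsIntegral X' ∧ IsProper b ∧ IsClosedImmersion j ∧
      j ≫ CohB1.ProjSpaceOver.toBase n S = b ≫ f := by
  obtain ⟨J, X', b, n, j, U, hU, hd, hb, hft, hbp, hj, hjf⟩ := ChowBlow.exists_blowUp_dense hS f
  have hN : IsLocallyNoetherian X := LocallyOfFiniteType.isLocallyNoetherian f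
  have hc : CompactSpace X := QuasiCompact.compactSpace_of_compactSpace f
  have hN' : IsNoetherian X := {}
  have hJu : (J.support : Set X) ≠ Set.univ := by
    intro h
    rw [h] at hd
    obtain ⟨x, hx⟩ := hU.nonempty
    exact Set.disjoint_left.mp hd trivial hx
  have hJ : ∀ n, n ≠ 0 → J ^ n ≠ ⊥ := by
    intro n hn h
    apply hJu
    rw [← Scheme.IdealSheafData.support_pow J n hn, h, Scheme.IdealSheafData.support_bot]
    rfl
  have hJ1 : J ≠ ⊥ := by
    have := hJ 1 one_ne_zero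
    rwa [pow_one] at this
  obtain ⟨hint, -, -⟩ := Groth.Agent.S2348.result J hJ1 b hb
  obtain ⟨n₀, hpos, hn₀⟩ := isPatch_of_isBlowUp hb
  refine ⟨J ^ n₀, X', b, n, j, hJ _ (by omega), ?_, fun m hm => ?_, ?_, isFiniteTypeIdeal _, hint,
    hbp, hj, hjf⟩
  · rwa [Scheme.IdealSheafData.support_pow _ _ (show n₀ ≠ 0 by omega)]
  · rw [← pow_mul]
    exact hn₀ _ (Nat.le_mul_of_pos_right n₀ hm)
  · rw [Groth.Agent.Divis.IdealComap.comap_pow]
    exact Groth.Agent.Sga2.ThickCoh.isEffCartierIdeal_pow hb.1 n₀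

end Groth.Agent.Pic13.H17.BlowPatch
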