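import Groth.Agent.FormalB.IdealPowH
import Groth.Agent.CohqB.QC2
import Groth.Agent.CurvesC.UnitCoh
import Groth.Agent.S0002

/-!
# Global functions in the powers of an ideal of the base, `X` proper over `Spec A`
-/

set_option autoImplicit false
universe u

open CategoryTheory CategoryTheory.Limits AlgebraicGeometry Opposite TopologicalSpace

namespace Groth.Agent.Pic13.H17.GenPow

open Groth.Agent.FormalB Groth.Agent.FormalB.HHLin Groth.Agent.FormalB.ModPow
  Groth.Agent.FormalB.ModPowAff Groth.Agent.FormalB.IdealPow Groth.Agent.CohqB.FiniteType2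
  Groth.Agent.CohqB.QC2

variable {X : Scheme.{u}}

/-- `H^0(X, M) = Γ(M, ⊤)`. -/
noncomputable def h0 (M : X.Modules) : Coh.HH X M 0 ≃+ Γ(M, ⊤) :=
  Sheaf.H.equiv₀ (Coh.toAb M) (isTerminalTop : IsTerminal (⊤ : Opens X))

theorem h0_map {M N : X.Modules} (φ : M ⟶ N) (x : Coh.HH X M 0) :
    h0 N (Sheaf.H.map ((SheafOfModules.toSheaf _).map φ) 0 x) = φ.app ⊤ (h0 M x) :=
  (Sheaf.H.equiv₀_naturality isTerminalTop ((SheafOfModules.toSheaf _).map φ) x).symm

variable {A : Type u} [CommRing A] [X.Over (Spec (CommRingCat.of A))]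

theorem h0_smul (M : X.Modules) (a : A) (x : Coh.HH X M 0) :
    h0 M (a • x) = toΓ A X ⊤ a • h0 M x :=
  h0_map (Formal.smulMod A M a) x

/-- The global function `y` belongs to `I ^ n` on every affine open. -/
def MemP (I : Ideal A) (n : ℕ) (y : Γ(X, ⊤)) : Prop :=
  ∀ W : X.affineOpens, resR (le_top : W.1 ≤ ⊤) y ∈ (I.map (toΓ A X W.1)) ^ n

variable (I : Ideal A)

/-- The inclusion `I ^ n O_X ⟶ O_X`. -/
noncomputable abbrev inc (n : ℕ) : Formal2.idealPowMod I n (Coh.structureModule X) ⟶ Coh.structureModule X :=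
  Formal2.idealPowModι I n (Coh.structureModule X)

/-- The function given by a section of `I ^ n O_X`. -/
noncomputable def fn {n : ℕ} {V : X.Opens} (z : Γ(Formal2.idealPowMod I n (Coh.structureModule X), V)) :
    Γ(X, V) := appLinear (inc I n) V z

theorem fn_res {n : ℕ} {U V : X.Opens} (h : V ≤ U)
    (z : Γ(Formal2.idealPowMod I n (Coh.structureModule X), U)) :
    fn I (res _ h z) = resR h (fn I z) := app_res (inc I n) h z

theorem fn_injective {n : ℕ} (V : X.Opens) : Function.Injective (fn I (n := n) (V := V)) :=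
  appLinear_injective (inc I n) V

theorem mem_iff_exists (n : ℕ) (W : X.affineOpens) (y : Γ(X, W.1)) :
    y ∈ (I.map (toΓ A X W.1)) ^ n ↔
      ∃ z : Γ(Formal2.idealPowMod I n (Coh.structureModule X), W.1), fn I z = y := by
  have h1 := range_ι I (CurvesC.UnitCoh.isQCoh_unit X) n W.2
  have h2 : y ∈ (I.map (toΓ A X W.1)) ^ n ↔
      y ∈ ((I.map (toΓ A X W.1)) ^ n • (⊤ : Submodule Γ(X, W.1) Γ(X, W.1))) := by
    rw [Ideal.smul_eq_mul, Ideal.mul_top]
  rw [h2]
  constructor
  · intro h
    have h3 : y ∈ LinearMap.range (appLinear (inc I n) W.1) := by rw [h1]; exact h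
    exact h3
  · intro h
    have h3 : y ∈ LinearMap.range (appLinear (inc I n) W.1) := h
    rw [h1] at h3
    exact h3

theorem memP_iff (n : ℕ) (y : Γ(X, ⊤)) : MemP I n y ↔
    ∃ z : Γ(Formal2.idealPowMod I n (Coh.structureModule X), ⊤), fn I z = y := by
  constructor
  · intro hy
    choose z hz using fun W : X.affineOpens => (mem_iff_exists I n W _).1 (hy W)
    obtain ⟨t, ht⟩ := exists_glue _ (fun W : X.affineOpens => W.1) (fun W => le_top)
      (by rw [iSup_affineOpens_eq_top]) z (by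
        intro W₁ W₂
        apply fn_injective I
        rw [fn_res, fn_res, hz, hz, resR_resR, resR_resR])
    refine ⟨t, ?_⟩
    refine section_ext (Coh.structureModule X) (fun W : X.affineOpens => W.1) (fun W => le_top)
      (by rw [iSup_affineOpens_eq_top]) _ _ fun W => ?_
    exact ((fn_res I (le_top : W.1 ≤ ⊤) t).symm.trans (congrArg (fn I) (ht W))).trans (hz W)
  · rintro ⟨z, rfl⟩ W
    rw [← fn_res]
    exact (mem_iff_exists I n W _).2 ⟨_, rfl⟩

/-- **Generation**: global functions in high powers of `I` are combinations with coefficients in powers of `I` of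
finitely many global functions in a fixed power. -/
theorem exists_gens [IsNoetherianRing A] [IsProper (X ↘ Spec (CommRingCat.of A))] :
    ∃ (c s : ℕ) (w : Fin s → Γ(X, ⊤)), (∀ j, MemP I c (w j)) ∧
      ∀ (m : ℕ) (y : Γ(X, ⊤)), MemP I (c + m) y →
        ∃ t : Fin s → A, (∀ j, t j ∈ I ^ m) ∧ y = ∑ j, toΓ A X ⊤ (t j) * w j := by
  have := GrCoh.isNoetherian_of_isProper (A := A) (X := X)
  obtain ⟨c, hc⟩ := IdealPowH.range_incl_le I (Coh.structureModule X)
    (fun M hM n => Groth.Agent.S0002.result A X M hM n) (CurvesC.UnitCoh.isCoh_unit X) 0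
  have hfin : Module.Finite A (Coh.HH X (Formal2.idealPowMod I c (Coh.structureModule X)) 0) :=
    Groth.Agent.S0002.result A X _ (isCoh_idealPowMod I (CurvesC.UnitCoh.isCoh_unit X) c) 0
  obtain ⟨s, v, hv⟩ := Module.Finite.exists_fin (R := A)
    (M := Coh.HH X (Formal2.idealPowMod I c (Coh.structureModule X)) 0)
  refine ⟨c, s, fun j => fn I (h0 _ (v j)), fun j => (memP_iff I c _).2 ⟨_, rfl⟩, ?_⟩
  intro m y hy
  obtain ⟨z, rfl⟩ := (memP_iff I (c + m) y).1 hy
  obtain ⟨x, rfl⟩ := (h0 _).surjective z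
  have h1 := hc c m le_rfl x
  rw [← hv] at h1
  obtain ⟨a, ha, hax⟩ := (Submodule.mem_ideal_smul_span_iff_exists_sum (I ^ m) v _).1 h1
  refine ⟨fun j => a j, fun j => ha j, ?_⟩
  have h2 : fn I (h0 _ x) = fn I (h0 _ (hm (Formal2.idealPowIncl I (Nat.le_add_right c m)
      (Coh.structureModule X)) 0 x)) := by
    rw [h0_map]
    have h3 := incl_ι I (Coh.structureModule X) (Nat.le_add_right c m)
    exact congrArg (fun t => t.app ⊤ (h0 _ x)) h3.symm
  rw [h2, ← hax, Finsupp.sum_fintype a (fun i c => c • v i) (fun i => zero_smul A (v i)), map_sum]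
  unfold fn
  rw [map_sum]
  refine Finset.sum_congr rfl fun j _ => ?_
  rw [h0_smul, map_smul]
  rfl

end Groth.Agent.Pic13.H17.GenPow
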