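import Mathlib.RingTheory.Filtration
import Mathlib.RingTheory.Ideal.Operations
import Mathlib.RingTheory.Noetherian.Basic
import Mathlib.RingTheory.Finiteness.Ideal

/-!
# Elements multiplied into the image of a power of an ideal by large powers of the ideal
-/

set_option autoImplicit false

namespace Groth.Agent.Pic13.H17.PowGen

variable {A : Type*} [CommRing A] {C : Type*} [CommRing C] (φ : A →+* C) (I : Ideal A) (y : C)

/-- The elements `t` of `A` with `t * y` in the image of `I ^ n`. -/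
def colon (n : ℕ) : Ideal A where
  carrier := {t | ∃ x ∈ I ^ n, φ t * y = φ x}
  zero_mem' := ⟨0, Ideal.zero_mem _, by rw [map_zero, zero_mul]⟩
  add_mem' := by
    rintro u v ⟨x, hx, hu⟩ ⟨z, hz, hv⟩
    exact ⟨x + z, Ideal.add_mem _ hx hz, by rw [map_add, add_mul, hu, hv, map_add]⟩
  smul_mem' := by
    rintro s u ⟨x, hx, hu⟩
    exact ⟨s * x, Ideal.mul_mem_left _ _ hx, by rw [smul_eq_mul, map_mul, map_mul, ← hu, mul_assoc]⟩

theorem mem_colon {n : ℕ} {t : A} : t ∈ colon φ I y n ↔ ∃ x ∈ I ^ n, φ t * y = φ x := Iff.rfl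

theorem mul_colon_le {n j m : ℕ} {L : Ideal A} (hL : L ≤ I ^ j) (h : m = n + j) :
    L * colon φ I y n ≤ colon φ I y m := by
  subst h
  refine Ideal.mul_le.mpr ?_
  rintro u hu v ⟨x, hx, hv⟩
  refine ⟨u * x, ?_, by rw [map_mul, map_mul, ← hv, mul_assoc]⟩
  rw [add_comm, pow_add]
  exact Ideal.mul_mem_mul (hL hu) hx

/-- If for every `a ∈ I` some `a ^ M * y` is the image of an element of `I ^ (c + M)`, then for all large `k`,
`h * y` is the image of an element of `I ^ (c + k)` for all `h ∈ I ^ k`. -/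
theorem exists_pow_le_colon (hI : I.FG) (c : ℕ)
    (h : ∀ a ∈ I, ∃ M : ℕ, ∃ x ∈ I ^ (c + M), φ a ^ M * y = φ x) :
    ∃ N : ℕ, ∀ k, N ≤ k → I ^ k ≤ colon φ I y (c + k) := by
  let P : (L : Submodule A A) → L.FG → Prop := fun L _ => L ≤ I →
    ∃ N : ℕ, ∀ k, N ≤ k → (L : Ideal A) ^ k ≤ colon φ I y (c + k)
  suffices hP : P I hI from hP le_rfl
  refine Submodule.fg_induction (motive := P) (fun a => ?_) (fun L₁ L₂ _ _ h₁ h₂ => ?_) I hI
  · intro ha
    have haI : a ∈ I := ha (Submodule.mem_span_singleton_self a)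
    obtain ⟨M, x, hx, hax⟩ := h a haI
    refine ⟨M, fun k hk => ?_⟩
    change (Ideal.span {a}) ^ k ≤ _
    rw [Ideal.span_singleton_pow, Ideal.span_singleton_le_iff_mem]
    obtain ⟨l, rfl⟩ := Nat.exists_eq_add_of_le hk
    refine ⟨a ^ l * x, ?_, ?_⟩
    · rw [show c + (M + l) = l + (c + M) by omega, pow_add I l]
      exact Ideal.mul_mem_mul (Ideal.pow_mem_pow haI l) hx
    · rw [map_mul, map_pow, map_pow, ← hax]
      ring
  · intro hL
    obtain ⟨N₁, hN₁⟩ := h₁ (le_sup_left.trans hL)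
    obtain ⟨N₂, hN₂⟩ := h₂ (le_sup_right.trans hL)
    refine ⟨N₁ + N₂, fun k hk => ?_⟩
    rw [← Submodule.add_eq_sup, add_pow]
    rw [Ideal.sum_eq_sup, Finset.sup_le_iff]
    intro m hm
    have hmk : m ≤ k := Nat.lt_succ_iff.mp (Finset.mem_range.mp hm)
    refine Ideal.mul_le_left.trans ?_
    rcases le_or_gt N₁ m with h | h
    · rw [mul_comm]
      exact (Ideal.mul_mono_right (hN₁ m h)).trans (mul_colon_le φ I y (j := k - m)
        (Ideal.pow_right_mono (le_sup_right.trans hL) _) (by omega))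
    · exact (Ideal.mul_mono_right (hN₂ (k - m) (by omega))).trans (mul_colon_le φ I y (j := m)
        (Ideal.pow_right_mono (le_sup_left.trans hL) _) (by omega))

/-- The same for all elements of a finitely generated module. -/
theorem exists_pow_mul_mem (hI : I.FG) (c : ℕ) {ι : Type*} [Finite ι] (w : ι → C)
    (h : ∀ i, ∀ a ∈ I, ∃ M : ℕ, ∃ x ∈ I ^ (c + M), φ a ^ M * w i = φ x) :
    ∃ N : ℕ, ∀ k, N ≤ k → ∀ i, I ^ k ≤ colon φ I (w i) (c + k) := by
  cases nonempty_fintype ι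
  choose N hN using fun i => exists_pow_le_colon φ I (w i) hI c (h i)
  exact ⟨Finset.univ.sup N, fun k hk i => hN i k ((Finset.le_sup (Finset.mem_univ i)).trans hk)⟩

/-- Injectivity of `φ` on high powers of `I`. -/
theorem exists_injOn_pow [IsNoetherianRing A]
    (h : ∀ x : A, φ x = 0 → ∀ a ∈ I, ∃ M : ℕ, a ^ M * x = 0) :
    ∃ N : ℕ, ∀ k, N ≤ k → ∀ x ∈ I ^ k, φ x = 0 → x = 0 := by
  let K : Ideal A := RingHom.ker φ
  have hK : K.FG := IsNoetherian.noetherian K
  have h1 : I ≤ (Module.annihilator A K).radical := by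
    intro a ha
    obtain ⟨s, hs⟩ := hK
    have h2 : ∀ x : s, ∃ M : ℕ, a ^ M * (x : A) = 0 := fun x => h x (by
      have : (x : A) ∈ K := by rw [← hs]; exact Submodule.subset_span x.2
      exact this) a ha
    choose M hM using h2
    refine ⟨Finset.univ.sup M, ?_⟩
    rw [Module.mem_annihilator]
    rintro ⟨x, hx⟩
    refine Subtype.ext ?_
    change a ^ _ * x = 0
    rw [← hs] at hx
    induction hx using Submodule.span_induction with
    | mem x hx =>
      obtain ⟨l, hl⟩ := Nat.exists_eq_add_of_le (Finset.le_sup (f := M) (Finset.mem_univ ⟨x, hx⟩))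
      rw [hl, add_comm, pow_add, mul_assoc, hM ⟨x, hx⟩, mul_zero]
    | zero => rw [mul_zero]
    | add x z _ _ hx hz => rw [mul_add, hx, hz, add_zero]
    | smul r x _ hx => rw [smul_eq_mul, mul_left_comm, hx, mul_zero]
  obtain ⟨N, hN⟩ := Ideal.exists_pow_le_of_le_radical_of_fg h1 (IsNoetherian.noetherian I)
  obtain ⟨k₀, hk₀⟩ := Ideal.exists_pow_inf_eq_pow_smul I (N := (K : Submodule A A))
  refine ⟨k₀ + N, fun k hk x hx hφ => ?_⟩
  have h3 := hk₀ k (by omega)
  have h4 : x ∈ (I ^ k • ⊤ ⊓ K : Submodule A A) := ⟨by simpa using hx, hφ⟩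
  rw [h3] at h4
  have h5 : (I ^ (k - k₀) • (I ^ k₀ • ⊤ ⊓ K) : Submodule A A) ≤ ⊥ := by
    refine (Submodule.smul_mono (Ideal.pow_le_pow_right (show N ≤ k - k₀ by omega)) inf_le_right).trans ?_
    rw [Submodule.smul_le]
    intro r hr z hz
    have h6 := Module.mem_annihilator.mp (hN hr) ⟨z, hz⟩
    rw [Submodule.mem_bot]
    exact congrArg Subtype.val h6
  exact (Submodule.mem_bot A).mp (h5 h4)

end Groth.Agent.Pic13.H17.PowGen
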