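import Groth.Agent.Pic13.H17.Patch
import Groth.Agent.Pic13.H17.PowGen
import Groth.Agent.Pic13.H17.GenPow
import Groth.Agent.Divis.BlowChart2
import Groth.Agent.Divis.BlowTwist
import Groth.Agent.Flat2C.BlowProper

/-!
# Functions on a blow-up lying in a high power of the exceptional ideal
-/

set_option autoImplicit false
universe u

open CategoryTheory CategoryTheory.Limits AlgebraicGeometry Opposite TopologicalSpace BlowUp

namespace Groth.Agent.Pic13.H17.BlowPow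

open Groth.Agent.Divis.IdealComap Groth.Agent.Divis.BlowChart Groth.Agent.Divis.BlowChart2
  Groth.Agent.Pic13.H17.Patch Groth.Agent.CohqB.QC2

variable {X X' : Scheme.{u}} {b : X' ⟶ X} {J : X.IdealSheafData} (U : X.affineOpens)

theorem resR_app (b : X' ⟶ X) {U : X.Opens} {W : X'.Opens} (h : W ≤ b ⁻¹ᵁ U) (a : Γ(X, U)) :
    resR h (b.app U a) = (b.appLE U W h).hom a := by
  rw [Scheme.Hom.appLE]
  rfl

/-- On the locus where (the image of) `a ∈ J(U)` is invertible, `a` generates the exceptional ideal. -/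
theorem basicOpen_le_chart {a : Γ(X, U.1)} (ha : a ∈ J.ideal U) :
    X'.basicOpen (b.app U.1 a) ≤ chart b J U a := by
  intro x hx
  obtain ⟨W, hW, hxW, hWle⟩ := exists_isAffineOpen_mem_and_subset (x := x)
    (U := X'.basicOpen (b.app U.1 a)) hx
  have hWU : W ≤ b ⁻¹ᵁ U.1 := hWle.trans (X'.basicOpen_le _)
  refine (mem_chart_iff b J U a x).2 ⟨⟨W, hW⟩, hWU, hxW, ?_⟩
  have h1 : IsUnit ((b.appLE U.1 W hWU).hom a) := by
    rw [← resR_app, ← resR_resR (X'.basicOpen_le (b.app U.1 a)) hWle]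
    exact (X'.toRingedSpace.isUnit_res_basicOpen (b.app U.1 a)).map _
  rw [Ideal.span_singleton_eq_top.2 h1]
  rw [ideal_comap J b U ⟨W, hW⟩ hWU]
  exact Ideal.eq_top_of_isUnit_mem _ (Ideal.mem_map_of_mem _ ha) h1

/-- A section lying in `J ^ n` is, after multiplication by a power of `a ∈ J(U)`, the image of an element of the
corresponding power of `J(U)`. -/
theorem exists_pow_mul_eq (hb : IsBlowUp b J) (hc : IsCompact (b ⁻¹ᵁ U.1 : Set X')) {n : ℕ}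
    {y : Γ(X', b ⁻¹ᵁ U.1)} (hy : Mem ((J.comap b) ^ n) y) {a : Γ(X, U.1)} (ha : a ∈ J.ideal U) :
    ∃ M : ℕ, ∃ x ∈ (J.ideal U) ^ (n + M), b.app U.1 a ^ M * y = b.app U.1 x := by
  have hV := isAffineOpen_chart b J U hb ha
  have hle := chart_le b J U a
  -- on the chart
  have h1 : resR hle y ∈ ((J.comap b) ^ n).ideal ⟨chart b J U a, hV⟩ := hy ⟨chart b J U a, hV⟩ hle
  have h2 : ((J.comap b) ^ n).ideal ⟨chart b J U a, hV⟩ =
      Ideal.span {(b.appLE U.1 (chart b J U a) hle).hom a ^ n} := by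
    rw [Scheme.IdealSheafData.ideal_pow, Pi.pow_apply, ideal_chart b J U a hV,
      Ideal.span_singleton_pow]
  rw [h2, Ideal.mem_span_singleton'] at h1
  obtain ⟨g, hg⟩ := h1
  obtain ⟨m, x, hx, hxg⟩ := exists_pow_mul_eq_appLE b J U hb ha g
  -- the difference
  have h3 : resR hle (b.app U.1 a ^ m * y - b.app U.1 (a ^ n * x)) = 0 := by
    rw [map_sub, map_mul, map_pow, ← hg, resR_app, resR_app, map_mul, map_pow, ← hxg]
    ring
  have h4 : resR (X'.basicOpen_le (b.app U.1 a)) (b.app U.1 a ^ m * y - b.app U.1 (a ^ n * x)) = 0 := by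
    rw [← resR_resR hle (basicOpen_le_chart U ha), h3, map_zero]
  obtain ⟨k, hk⟩ := exists_pow_mul_eq_zero_of_res_basicOpen_eq_zero_of_isCompact X' hc
    (b.app U.1 a ^ m * y - b.app U.1 (a ^ n * x)) (b.app U.1 a) h4
  refine ⟨k + m, a ^ (n + k) * x, ?_, ?_⟩
  · rw [show n + (k + m) = (n + k) + m by omega, pow_add (J.ideal U) (n + k) m]
    exact Ideal.mul_mem_mul (Ideal.pow_mem_pow ha _) hx
  · rw [mul_sub, sub_eq_zero] at hk
    rw [pow_add, mul_assoc, hk, map_mul, map_pow, map_mul, map_pow]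
    ring

/-- A function on `U` that vanishes on the blow-up is killed by a power of every element of `J(U)`. -/
theorem exists_pow_mul_eq_zero (hb : IsBlowUp b J) {x : Γ(X, U.1)} (hx : b.app U.1 x = 0)
    {a : Γ(X, U.1)} (ha : a ∈ J.ideal U) : ∃ M : ℕ, a ^ M * x = 0 := by
  obtain ⟨θ, hθ⟩ := exists_ringEquiv_chart b J U hb ha
  have h1 : (b.appLE U.1 (chart b J U a) (chart_le b J U a)).hom x = 0 := by
    rw [← resR_app, hx, map_zero]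
  rw [← hθ, map_eq_zero_iff θ θ.injective] at h1
  have h2 : algebraMap Γ(X, U.1) (Localization.Away a) x = 0 := congrArg Subtype.val h1
  rw [IsLocalization.map_eq_zero_iff (Submonoid.powers a)] at h2
  obtain ⟨⟨_, M, rfl⟩, hM⟩ := h2
  exact ⟨M, hM⟩

section Gens

open Groth.Agent.FormalB.ModPowAff Groth.Agent.Pic13.H17.GenPow

variable (b)

/-- The scheme `b⁻¹ U` over `Spec Γ(X, U)`. -/
noncomputable abbrev overBase : (b ⁻¹ᵁ U.1).toScheme.Over (Spec (CommRingCat.of Γ(X, U.1))) :=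
  ⟨toSpecBase b U⟩

attribute [local instance] overBase

theorem toΓ_apply (W : (b ⁻¹ᵁ U.1).toScheme.Opens) (a : Γ(X, U.1)) :
    toΓ Γ(X, U.1) (b ⁻¹ᵁ U.1).toScheme W a =
      (b.appLE U.1 ((b ⁻¹ᵁ U.1).ι ''ᵁ W) ((b ⁻¹ᵁ U.1).ι_image_le W)).hom a := by
  have e'' : W ≤ (toSpecBase b U ≫ U.2.fromSpec) ⁻¹ᵁ U.1 := by
    rw [toSpecBase_fromSpec]
    exact fun x hx => x.2
  have h1 := resT_glob U (toSpecBase b U) W e'' a
  have h2 : (toSpecBase b U ≫ U.2.fromSpec).appLE U.1 W e'' =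
      b.appLE U.1 ((b ⁻¹ᵁ U.1).ι ''ᵁ W) ((b ⁻¹ᵁ U.1).ι_image_le W) := by
    simp_rw [toSpecBase_fromSpec]
    rw [Scheme.Hom.comp_appLE]
    exact congrArg (fun t => b.app U.1 ≫ t) (Scheme.Opens.ι_appLE (U := b ⁻¹ᵁ U.1) (b ⁻¹ᵁ U.1) W _)
  rw [h2] at h1
  exact h1

/-- A section over `b⁻¹ U` as a global function. -/
noncomputable def glb (y : Γ(X', b ⁻¹ᵁ U.1)) : Γ((b ⁻¹ᵁ U.1).toScheme, ⊤) :=
  resR (X := X') ((b ⁻¹ᵁ U.1).ι_image_le ⊤) y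

theorem memP_glb {n : ℕ} {y : Γ(X', b ⁻¹ᵁ U.1)} (hy : Mem ((J.comap b) ^ n) y) :
    MemP (J.ideal U) n (glb b U y) := by
  intro W
  have hW : IsAffineOpen ((b ⁻¹ᵁ U.1).ι ''ᵁ W.1) := W.2.image_of_isOpenImmersion _
  have hle : (b ⁻¹ᵁ U.1).ι ''ᵁ W.1 ≤ b ⁻¹ᵁ U.1 := (b ⁻¹ᵁ U.1).ι_image_le _
  have h1 := hy ⟨_, hW⟩ hle
  rw [Scheme.IdealSheafData.ideal_pow, Pi.pow_apply, ideal_comap J b U ⟨_, hW⟩ hle] at h1
  have h2 : toΓ Γ(X, U.1) (b ⁻¹ᵁ U.1).toScheme W.1 = (b.appLE U.1 _ hle).hom :=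
    RingHom.ext fun a => toΓ_apply b U W.1 a
  have h3 : resR (X := (b ⁻¹ᵁ U.1).toScheme) (le_top : W.1 ≤ ⊤) (glb b U y) =
      resR (X := X') hle y := by
    have h5 : (b ⁻¹ᵁ U.1).ι ''ᵁ W.1 ≤ (b ⁻¹ᵁ U.1).ι ''ᵁ ⊤ := (b ⁻¹ᵁ U.1).ι.image_mono le_top
    exact resR_resR (X := X') ((b ⁻¹ᵁ U.1).ι_image_le ⊤) h5 y
  rw [h3, h2]
  exact h1

theorem exists_glb {n : ℕ} {w : Γ((b ⁻¹ᵁ U.1).toScheme, ⊤)} (hw : MemP (J.ideal U) n w) :
    ∃ y : Γ(X', b ⁻¹ᵁ U.1), Mem ((J.comap b) ^ n) y ∧ glb b U y = w := by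
  obtain ⟨y, hy⟩ := (resR_bijective_of_eq (X := X') ((b ⁻¹ᵁ U.1).ι_image_le ⊤)
    (by simp)).2 (show Γ(X', (b ⁻¹ᵁ U.1).ι ''ᵁ ⊤) from w)
  refine ⟨y, ?_, hy⟩
  intro W hWle
  have hr : W.1 ≤ (b ⁻¹ᵁ U.1).ι.opensRange := by rwa [Scheme.Opens.opensRange_ι]
  have hW' : IsAffineOpen ((b ⁻¹ᵁ U.1).ι ⁻¹ᵁ W.1) := W.2.preimage_of_isOpenImmersion _ hr
  have himg : W.1 = (b ⁻¹ᵁ U.1).ι ''ᵁ ((b ⁻¹ᵁ U.1).ι ⁻¹ᵁ W.1) := by
    rw [Scheme.Hom.image_preimage_eq_opensRange_inf, inf_eq_right.2 hr]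
  have key : ∀ (V : X'.affineOpens) (W' : (b ⁻¹ᵁ U.1).toScheme.affineOpens)
      (_ : V.1 = (b ⁻¹ᵁ U.1).ι ''ᵁ W'.1) (hV : V.1 ≤ b ⁻¹ᵁ U.1),
      resR hV y ∈ ((J.comap b) ^ n).ideal V := by
    rintro ⟨V, hVa⟩ W' hVW hV
    dsimp only at hVW
    subst hVW
    have h1 := hw W'
    have h2 : toΓ Γ(X, U.1) (b ⁻¹ᵁ U.1).toScheme W'.1 = (b.appLE U.1 _ hV).hom :=
      RingHom.ext fun a => toΓ_apply b U W'.1 a
    rw [h2] at h1
    rw [Scheme.IdealSheafData.ideal_pow, Pi.pow_apply, ideal_comap J b U ⟨_, hVa⟩ hV]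
    have h3 : resR (X := (b ⁻¹ᵁ U.1).toScheme) (le_top : W'.1 ≤ ⊤) w = resR (X := X') hV y := by
      have h5 : (b ⁻¹ᵁ U.1).ι ''ᵁ W'.1 ≤ (b ⁻¹ᵁ U.1).ι ''ᵁ ⊤ := (b ⁻¹ᵁ U.1).ι.image_mono le_top
      have h6 := resR_resR (X := X') ((b ⁻¹ᵁ U.1).ι_image_le ⊤) h5 y
      rw [hy] at h6
      exact h6
    rw [h3] at h1
    exact h1
  exact key W ⟨_, hW'⟩ himg hWle

theorem glb_app (a : Γ(X, U.1)) : glb b U (b.app U.1 a) = toΓ Γ(X, U.1) (b ⁻¹ᵁ U.1).toScheme ⊤ a := by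
  rw [toΓ_apply]
  exact resR_app b _ a

theorem glb_injective : Function.Injective (glb b U) :=
  (resR_bijective_of_eq (X := X') ((b ⁻¹ᵁ U.1).ι_image_le ⊤) (by simp)).1

theorem glb_mul (x y : Γ(X', b ⁻¹ᵁ U.1)) : glb b U (x * y) = glb b U x * glb b U y :=
  map_mul (resR (X := X') ((b ⁻¹ᵁ U.1).ι_image_le ⊤)) x y

theorem glb_sum {ι : Type*} (s : Finset ι) (x : ι → Γ(X', b ⁻¹ᵁ U.1)) :
    glb b U (∑ i ∈ s, x i) = ∑ i ∈ s, glb b U (x i) :=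
  map_sum (resR (X := X') ((b ⁻¹ᵁ U.1).ι_image_le ⊤)) x s

theorem isProper_toSpecBase [IsProper b] : IsProper (toSpecBase b U) := by
  unfold toSpecBase
  infer_instance

/-- **Generation** over an affine open of the base. -/
theorem exists_gens [IsProper b] [IsNoetherianRing Γ(X, U.1)] (J : X.IdealSheafData) :
    ∃ (c s : ℕ) (w : Fin s → Γ(X', b ⁻¹ᵁ U.1)), (∀ j, Mem ((J.comap b) ^ c) (w j)) ∧
      ∀ (m : ℕ) (y : Γ(X', b ⁻¹ᵁ U.1)), Mem ((J.comap b) ^ (c + m)) y →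
        ∃ t : Fin s → Γ(X, U.1), (∀ j, t j ∈ (J.ideal U) ^ m) ∧
          y = ∑ j, b.app U.1 (t j) * w j := by
  have hp : IsProper ((b ⁻¹ᵁ U.1).toScheme ↘ Spec (CommRingCat.of Γ(X, U.1))) :=
    isProper_toSpecBase b U
  obtain ⟨c, s, w, hw, hgen⟩ := GenPow.exists_gens (A := Γ(X, U.1))
    (X := (b ⁻¹ᵁ U.1).toScheme) (J.ideal U)
  choose v hv hvw using fun j => exists_glb b U (hw j)
  refine ⟨c, s, v, hv, fun m y hy => ?_⟩
  obtain ⟨t, ht, hty⟩ := hgen m _ (memP_glb b U hy)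
  refine ⟨t, ht, glb_injective b U ?_⟩
  rw [hty, glb_sum]
  refine Finset.sum_congr rfl fun j _ => ?_
  rw [glb_mul, glb_app, hvw]

end Gens

/-- **(M1) over one affine open**: for `n` large, `J(U) ^ n` is the module of sections of the `n`-th power of
the exceptional ideal over the inverse image of `U`. -/
theorem exists_m1 (hb : IsBlowUp b J) [IsProper b] [IsNoetherianRing Γ(X, U.1)] :
    ∃ n₀ : ℕ, ∀ n, n₀ ≤ n → ∀ y : Γ(X', b ⁻¹ᵁ U.1), Mem ((J.comap b) ^ n) y →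
      ∃! x : Γ(X, U.1), x ∈ (J.ideal U) ^ n ∧ b.app U.1 x = y := by
  have hc : IsCompact (b ⁻¹ᵁ U.1 : Set X') := b.isCompact_preimage U.2.isCompact
  obtain ⟨c, s, w, hw, hgen⟩ := exists_gens b U J
  obtain ⟨N₁, hN₁⟩ := PowGen.exists_pow_mul_mem (b.app U.1).hom (J.ideal U)
    (IsNoetherian.noetherian _) c w (fun i a ha => exists_pow_mul_eq U hb hc (hw i) ha)
  obtain ⟨N₂, hN₂⟩ := PowGen.exists_injOn_pow (b.app U.1).hom (J.ideal U)
    (fun x hx a ha => exists_pow_mul_eq_zero U hb hx ha)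
  refine ⟨c + N₁ + N₂, fun n hn y hy => ?_⟩
  obtain ⟨m, rfl⟩ := Nat.exists_eq_add_of_le (show c ≤ n by omega)
  obtain ⟨t, ht, rfl⟩ := hgen m y hy
  choose x hx hxy using fun j => hN₁ m (by omega) j (ht j)
  refine ⟨∑ j, x j, ⟨Ideal.sum_mem _ fun j _ => hx j, ?_⟩, ?_⟩
  · rw [map_sum]
    exact Finset.sum_congr rfl fun j _ => (hxy j).symm
  · rintro z ⟨hz, hzy⟩
    have h1 : z - ∑ j, x j ∈ (J.ideal U) ^ (c + m) :=
      Ideal.sub_mem _ hz (Ideal.sum_mem _ fun j _ => hx j)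
    refine sub_eq_zero.mp (hN₂ _ (by omega) _ h1 ?_)
    change (b.app U.1).hom (z - ∑ j, x j) = 0
    rw [map_sub, sub_eq_zero]
    refine hzy.trans ?_
    rw [map_sum]
    exact Finset.sum_congr rfl fun j _ => hxy j

end Groth.Agent.Pic13.H17.BlowPow
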