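import Groth.Agent.Pic13.H602.RigDesc
import Groth.Agent.Pic13.H126.PatchGens
import Mathlib.AlgebraicGeometry.Limits

/-!
# Families of sections over a disjoint union

`c : A ⟶ W`, `d : B ⟶ W` jointly covering monomorphisms with disjoint images: families
`Fam σ L N` over `W` are pairs of families over `A` and `B`.
-/

set_option autoImplicit false
set_option backward.isDefEq.respectTransparency false

universe v u

open CategoryTheory CategoryTheory.Limits AlgebraicGeometry TopologicalSpace Opposite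

namespace Groth.Agent.Pic13.H17.FamCoprod

open Groth.Agent.Fdesc Groth.Agent.Fdesc.LocGen Groth.Agent.Picfga.LineHom
  Groth.Agent.Picfga.LineDescent Groth.Agent.Picfga.LineFam Groth.Agent.Picfga.HilbPull
  Groth.Agent.Pic13.H602.FamDesc Groth.Agent.Pic13.H602.Rig

variable {A B W Y : Scheme.{u}}

/-- The family `{A, B}`. -/
def pr (A B : Scheme.{u}) : Bool → Scheme.{u} := fun t ↦ bif t then A else B

/-- The family `{c, d}`. -/
def prm (c : A ⟶ W) (d : B ⟶ W) : ∀ t, pr A B t ⟶ W
  | true => c
  | false => d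

/-- `W` is the disjoint union of `A` and `B`. -/
structure IsDisj (c : A ⟶ W) (d : B ⟶ W) : Prop where
  cov : Presieve.ofArrows (pr A B) (prm c d) ∈ Scheme.fpqcPrecoverage W
  monoc : Mono c
  monod : Mono d
  disj : ∀ {Z : Scheme.{u}} (a : Z ⟶ A) (b : Z ⟶ B), a ≫ c = b ≫ d → IsEmpty Z

/-- Families over an empty scheme. -/
lemma sim_of_isEmpty {Z : Scheme.{u}} [IsEmpty Z] {G G₁ : Z ⟶ Y} {L : Y.Modules} {M : Z.Modules}
    (F : Fam G L M) (F₁ : Fam G₁ L M) (h : G = G₁) : Sim F F₁ := by
  subst h
  refine Sim.of_eq (Fam.ext' fun U s ↦ ?_)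
  exact Groth.Agent.Pic13.H126.PatchGens.eq_of_forall_notMem _ _ fun x ↦ isEmptyElim x

namespace IsDisj

variable {c : A ⟶ W} {d : B ⟶ W} (h : IsDisj c d) {N : W.Modules} {N₁ : A.Modules} {N₂ : B.Modules}
  (ν₁ : Fam c N N₁) (ν₂ : Fam d N N₂) (hN : PicF.IsInvertible N) {σ : W ⟶ Y} {L : Y.Modules}

include h hN

lemma fam_ext {φ φ' : Fam σ L N} (h₁ : Sim (φ.comp ν₁) (φ'.comp ν₁))
    (h₂ : Sim (φ.comp ν₂) (φ'.comp ν₂)) : φ = φ' :=
  Groth.Agent.Pic13.H602.FamDesc.fam_ext (W' := pr A B) (q := prm c d)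
    (N' := fun t ↦ match t with | true => N₁ | false => N₂) hN h.cov
    (fun t ↦ match t with | true => ν₁ | false => ν₂)
    (fun t ↦ match t with | true => h₁ | false => h₂)

lemma exists_fam (φ₁ : Fam (c ≫ σ) L N₁) (φ₂ : Fam (d ≫ σ) L N₂) :
    ∃ φ : Fam σ L N, φ.comp ν₁ = φ₁ ∧ φ.comp ν₂ = φ₂ := by
  have := h.monoc
  have := h.monod
  obtain ⟨φ, hφ⟩ := Groth.Agent.Pic13.H602.FamDesc.exists_fam (W' := pr A B) (q := prm c d)
    (N' := fun t ↦ match t with | true => N₁ | false => N₂) hN h.cov
    (fun t ↦ match t with | true => ν₁ | false => ν₂) (σ := σ) (L := L)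
    (fun t ↦ match t with | true => φ₁ | false => φ₂) (by
      intro s t Z a b M α β hαβ
      match s, t with
      | true, true =>
        have hab : a = b := (cancel_mono c).1 hαβ.hom_eq
        exact (Sim.cancel hN ν₁ hab hαβ).comp_right φ₁
      | false, false =>
        have hab : a = b := (cancel_mono d).1 hαβ.hom_eq
        exact (Sim.cancel hN ν₂ hab hαβ).comp_right φ₂
      | true, false =>
        have : IsEmpty Z := h.disj a b hαβ.hom_eq
        refine sim_of_isEmpty _ _ ?_
        have h1 := hαβ.hom_eq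
        change a ≫ c ≫ σ = b ≫ d ≫ σ
        have h2 : a ≫ c = b ≫ d := h1
        rw [reassoc_of% h2]
      | false, true =>
        have h2 : a ≫ d = b ≫ c := hαβ.hom_eq
        have : IsEmpty Z := h.disj b a h2.symm
        refine sim_of_isEmpty _ _ ?_
        change a ≫ d ≫ σ = b ≫ c ≫ σ
        rw [reassoc_of% h2])
  exact ⟨φ, hφ true, hφ false⟩

omit hN in
/-- Base change. -/
lemma of_isPullback {A' B' W' : Scheme.{u}} {c' : A' ⟶ W'} {d' : B' ⟶ W'} {g : W' ⟶ W}
    {gA : A' ⟶ A} {gB : B' ⟶ B} (hA : IsPullback gA c' c g) (hB : IsPullback gB d' d g) :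
    IsDisj c' d' where
  cov := Precoverage.mem_coverings_of_isPullback _ h.cov g _
    (fun t ↦ match t with | true => gA | false => gB)
    (fun t ↦ match t with | true => hA.flip | false => hB.flip)
  monoc := by
    exact MorphismProperty.of_isPullback (P := MorphismProperty.monomorphisms _) hA h.monoc
  monod := by
    exact MorphismProperty.of_isPullback (P := MorphismProperty.monomorphisms _) hB h.monod
  disj := by
    intro Z a b hab
    refine h.disj (a ≫ gA) (b ≫ gB) ?_
    rw [Category.assoc, Category.assoc, hA.w, hB.w, reassoc_of% hab]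

end IsDisj

/-- The coproduct. -/
lemma isDisj_coprod (A B : Scheme.{u}) : IsDisj (coprod.inl : A ⟶ A ⨿ B) coprod.inr where
  cov := by
    apply Scheme.zariskiPrecoverage_le_fpqcPrecoverage
    rw [Scheme.ofArrows_mem_precoverage_iff]
    constructor
    · intro x
      have h := (isCompl_range_inl_inr A B).sup_eq_top
      have hx : x ∈ (⊤ : Set (A ⨿ B : Scheme.{u})) := trivial
      rw [← h] at hx
      rcases hx with hx | hx
      · exact ⟨true, hx⟩
      · exact ⟨false, hx⟩
    · intro t
      match t with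
      | true => exact inferInstanceAs (IsOpenImmersion (coprod.inl : A ⟶ A ⨿ B))
      | false => exact inferInstanceAs (IsOpenImmersion (coprod.inr : B ⟶ A ⨿ B))
  monoc := inferInstance
  monod := inferInstance
  disj := by
    intro Z a b hab
    refine ⟨fun z ↦ inl_ne_inr A B (a z) (b z) ?_⟩
    rw [← Scheme.Hom.comp_apply, ← Scheme.Hom.comp_apply, hab]

end Groth.Agent.Pic13.H17.FamCoprod
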