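import Groth.Agent.Pic13.H932.GoodIso
import Mathlib.AlgebraicGeometry.Morphisms.Proper

/-!
# S4289 from S4298

A nonempty open subset of the spectrum of a field is everything.
-/

set_option autoImplicit false
universe u

open CategoryTheory CategoryTheory.Limits AlgebraicGeometry Opposite

namespace Groth.Agent.Pic13.H17.FieldOfGen

open Groth.Agent.Pic13.H964.Defs Groth.Agent.Pic13.H932.GoodIso

theorem exists_of_open {X S : Scheme.{u}} (f : X ⟶ S) [Subsingleton S] (V : S.Opens)
    (hV : (V : Set S).Nonempty) (P : Over (V : Scheme.{u}))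
    (h : PicRel.RepresentedBy (pullback.snd f V.ι) P) [IsSeparated P.hom]
    [LocallyOfFiniteType P.hom] : ∃ P' : Over S, PicRel.RepresentedBy f P' ∧
      IsSeparated P'.hom ∧ LocallyOfFiniteType P'.hom := by
  obtain rfl : V = ⊤ := by
    obtain ⟨x, hx⟩ := hV
    ext y
    exact ⟨fun _ ↦ trivial, fun _ ↦ Subsingleton.elim x y ▸ hx⟩
  have hi : IsIso (⊤ : S.Opens).ι := inferInstanceAs (IsIso S.topIso.hom)
  let a : S ⟶ ((⊤ : S.Opens) : Scheme.{u}) := inv (⊤ : S.Opens).ι
  have hfst : IsIso (pullback.fst f (⊤ : S.Opens).ι) := inferInstance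
  have H : IsPullback (inv (pullback.fst f (⊤ : S.Opens).ι)) f (pullback.snd f (⊤ : S.Opens).ι) a := by
    refine IsPullback.of_horiz_isIso ⟨?_⟩
    rw [IsIso.inv_comp_eq, ← Category.assoc, pullback.condition, Category.assoc, IsIso.hom_inv_id,
      Category.comp_id]
  refine ⟨(Over.pullback a).obj P, representedBy_of_iso H.isoPullback H.isoPullback_hom_snd
    (representedBy_baseChange _ a h), ?_, ?_⟩
  · exact (inferInstance : IsSeparated (pullback.snd P.hom a))
  · exact (inferInstance : LocallyOfFiniteType (pullback.snd P.hom a))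

/-- The statement of S4298. -/
def S4298Stmt : Prop :=
  ∀ {X S : Scheme.{u}} [IsNoetherian S] [IsIntegral S] (f : X ⟶ S) [IsProper f],
    ∃ V : S.Opens, (V : Set S).Nonempty ∧ ∃ P : Over (V : Scheme.{u}),
      PicRel.RepresentedBy (pullback.snd f V.ι) P ∧ IsSeparated P.hom ∧ LocallyOfFiniteType P.hom

/-- **S4289 from S4298.** -/
theorem result_of (H : S4298Stmt.{u}) (k : Type u) [Field k] (X : Scheme.{u})
    [X.Over (Spec (CommRingCat.of k))] [IsProper (X ↘ Spec (CommRingCat.of k))] :
    ∃ P : Over (Spec (CommRingCat.of k)), PicRel.RepresentedBy (X ↘ Spec (CommRingCat.of k)) P ∧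
      IsSeparated P.hom ∧ LocallyOfFiniteType P.hom := by
  have : IsNoetherian (Spec (CommRingCat.of k)) := inferInstance
  obtain ⟨V, hV, P, hP, h1, h2⟩ := H (X ↘ Spec (CommRingCat.of k))
  have : Subsingleton (Spec (CommRingCat.of k)) := inferInstanceAs (Subsingleton (PrimeSpectrum k))
  exact exists_of_open _ V hV P hP

end Groth.Agent.Pic13.H17.FieldOfGen
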