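import Groth.Agent.Pic13.H602.Sim

/-!
# The scheme of isomorphisms between two invertible modules: the universal property

`p : Z ⟶ S`, `T` over `S`, `L₁`, `L₂` modules on `Z_T`. An isomorphism between the pullbacks of
`L₁`, `L₂` to `Z_{T'}` is encoded by a common pullback `N'` with two families
`κ₁' : Fam _ L₁ N'`, `κ₂' : Fam _ L₂ N'`.
-/

set_option autoImplicit false
set_option backward.isDefEq.respectTransparency false

universe u

open CategoryTheory CategoryTheory.Limits AlgebraicGeometry TopologicalSpace Opposite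

namespace Groth.Agent.Pic13.H17.IsomDef

open Groth.Agent.Picfga.LineFam Groth.Agent.Pic13.H602.Rig

/-- `(a : I ⟶ T, N, κ₁, κ₂)` is the universal common pullback of `L₁` and `L₂`, i.e. the universal
isomorphism between the pullbacks of `L₁` and `L₂`. -/
def IsIsom {Z S : Scheme.{u}} (p : Z ⟶ S) {T : Over S} (L₁ L₂ : (PicF.XT p T).Modules)
    {I : Over S} (a : I ⟶ T) {N : (PicF.XT p I).Modules}
    (κ₁ : Fam (PicF.XTmap p a) L₁ N) (κ₂ : Fam (PicF.XTmap p a) L₂ N) : Prop :=
  ∀ (T' : Over S) (h : T' ⟶ T) (N' : (PicF.XT p T').Modules)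
    (κ₁' : Fam (PicF.XTmap p h) L₁ N') (κ₂' : Fam (PicF.XTmap p h) L₂ N'),
    PicF.IsInvertible N' →
    ∃! g : T' ⟶ I, g ≫ a = h ∧
      ∃ ν : Fam (PicF.XTmap p g) N N', Sim (κ₁.comp ν) κ₁' ∧ Sim (κ₂.comp ν) κ₂'

end Groth.Agent.Pic13.H17.IsomDef
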