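import Groth.Agent.Pic13.H17.PatchM1
import Groth.Agent.Pic13.H126.PatchGens

/-!
# From `IsPatch` to the patching squares of `Groth.Agent.Pic13.H126.Patch`
-/

set_option autoImplicit false
universe u

open CategoryTheory CategoryTheory.Limits AlgebraicGeometry Opposite TopologicalSpace

namespace Groth.Agent.Pic13.H17.PatchBridge

open Groth.Agent.Pic13.H17.Patch Groth.Agent.Pic13.H17.PatchM1 Groth.Agent.Fdesc.LocGen
  Groth.Agent.Pic13.H126.Patch Groth.Agent.Fdesc Groth.Agent.Picfga.LineHom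
  Groth.Agent.Picfga.LineDescent Groth.Agent.Picfga.LineFam

variable {X X' Y Y' : Scheme.{u}}

theorem ker_eq {b : X' ⟶ X} {i : Y ⟶ X} {i' : Y' ⟶ X'} {π' : Y' ⟶ Y} [IsClosedImmersion i]
    (sq : IsPullback i' π' b i) : i'.ker = i.ker.comap b := by
  rw [← Scheme.IdealSheafData.ker_fst_of_isClosedImmersion, ← sq.isoPullback_hom_fst,
    Scheme.Hom.ker_comp_of_isIso]

theorem mem_ideal_iff (i : Y ⟶ X) [QuasiCompact i] (U : X.affineOpens) (a : Γ(X, U.1)) :
    a ∈ i.ker.ideal U ↔ i.app U.1 a = 0 := by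
  rw [Scheme.Hom.ker_apply, RingHom.mem_ker]

theorem mem_ker_iff (i : Y ⟶ X) [QuasiCompact i] {V : X.Opens} (a : Γ(X, V)) :
    Mem i.ker a ↔ i.app V a = 0 := by
  constructor
  · intro ha
    let ι := {W : X.affineOpens // W.1 ≤ V}
    have hcov : V ≤ ⨆ W : ι, W.1.1 := by
      intro x hx
      obtain ⟨A, hA, hxA, hAV⟩ := exists_isAffineOpen_mem_and_subset (U := V) (x := x) hx
      exact Opens.mem_iSup.mpr ⟨⟨⟨A, hA⟩, hAV⟩, hxA⟩
    refine ores_ext (fun W : ι => i ⁻¹ᵁ W.1.1) (fun W => i.preimage_mono W.2) ?_ fun W => ?_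
    · rw [← Scheme.Hom.preimage_iSup]
      exact i.preimage_mono hcov
    · rw [map_zero, ← PatchM1.app_ores i W.2]
      exact (mem_ideal_iff i W.1 _).1 (ha W.1 W.2)
  · intro ha W hW
    rw [mem_ideal_iff]
    have h1 := PatchM1.app_ores i hW a
    rw [ha, map_zero] at h1
    exact h1

variable {b : X' ⟶ X} {I : X.IdealSheafData} {i : Y ⟶ X} {i' : Y' ⟶ X'} {π' : Y' ⟶ Y}

/-- `IsPatch` gives a patching square of rings of functions. -/
theorem patchSq (h : IsPatch b I) [IsClosedImmersion i] (hi : i.ker = I) (sq : IsPullback i' π' b i) :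
    PatchSq b i i' π' := by
  have hi' : IsClosedImmersion i' := MorphismProperty.of_isPullback sq.flip ‹_›
  have hk : i'.ker = I.comap b := by rw [ker_eq sq, hi]
  refine PatchSq.of_affine sq.w (fun U hU a h1 h2 => ?_) (fun U hU z c hle hzc => ?_)
  · refine uniq b (U := ⟨U, hU⟩) (h.m1 ⟨U, hU⟩) ?_ h1
    rw [← hi]
    exact (mem_ideal_iff i ⟨U, hU⟩ a).2 h2
  · obtain ⟨a₀, rfl⟩ := (i.app_surjective U hU) c
    have h1 : Mem (I.comap b) (z - b.app U a₀) := by
      rw [← hk, mem_ker_iff, map_sub, hzc, sub_eq_zero]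
      have e1 : fn i (le_refl (i ⁻¹ᵁ U)) a₀ = i.app U a₀ := by rw [fn_apply, ores_refl]
      have e2 : fn b (le_refl (b ⁻¹ᵁ U)) a₀ = b.app U a₀ := by rw [fn_apply, ores_refl]
      have e3 : fn i' (le_refl (i' ⁻¹ᵁ (b ⁻¹ᵁ U))) (b.app U a₀) = i'.app (b ⁻¹ᵁ U) (b.app U a₀) := by
        rw [fn_apply, ores_refl]
      rw [← e3, ← e1, ← e2, fn_comp, fn_comp]
      exact fn_congr sq.w.symm _ _
    obtain ⟨a₁, ⟨ha₁, hza⟩, -⟩ := h.m1 ⟨U, hU⟩ _ h1
    refine ⟨a₁ + a₀, ?_, ?_⟩
    · rw [map_add]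
      exact (congrArg (· + b.app U a₀) hza).trans (sub_add_cancel _ _)
    · rw [map_add]
      rw [← hi] at ha₁
      have h2 := (mem_ideal_iff i ⟨U, hU⟩ a₁).1 ha₁
      change i.app U a₁ + i.app U a₀ = i.app U a₀
      rw [h2, zero_add]

theorem isClosed_range (i : Y ⟶ X) [IsClosedImmersion i] : IsClosed (Set.range i) :=
  i.isClosedEmbedding.isClosed_range

theorem range_eq [IsClosedImmersion i] (hi : i.ker = I) : Set.range i = (I.support : Set X) := by
  rw [← hi, Scheme.Hom.support_ker, (isClosed_range i).closure_eq]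

/-- Over the complement of `V(I)` the fibres are single points. -/
theorem fib (h : IsPatch b I) [IsClosedImmersion i] (hi : i.ker = I) (x : X) (hx : x ∉ Set.range i) :
    ∃ x' : X', ∀ x'' : X', b x'' = x ↔ x'' = x' := by
  have hiso := h.iso
  rw [range_eq hi] at hx
  let V : X.Opens := I.support.compl
  have hxV : x ∈ V := hx
  obtain ⟨y, hy⟩ := (b ∣_ V).homeomorph.surjective ⟨x, hxV⟩
  have hy' : (b ∣_ V) y = ⟨x, hxV⟩ := hy
  have hyx : b y.1 = x := by
    rw [← morphismRestrict_base_coe b V y]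
    exact congrArg Subtype.val hy'
  refine ⟨y.1, fun x'' => ⟨fun hx'' => ?_, ?_⟩⟩
  · have hx3 : x'' ∈ b ⁻¹ᵁ V := by
      change b x'' ∈ V
      rw [hx'']
      exact hxV
    have h1 : (b ∣_ V) ⟨x'', hx3⟩ = ⟨x, hxV⟩ := Subtype.ext ((morphismRestrict_base_coe b V _).trans hx'')
    have h2 := (b ∣_ V).homeomorph.injective (h1.trans hy'.symm)
    exact congrArg Subtype.val h2
  · rintro rfl
    exact hyx

/-- The inverse image of `V(I)`. -/
theorem pre (sq : IsPullback i' π' b i) (x' : X') (hx' : b x' ∈ Set.range i) : x' ∈ Set.range i' := by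
  have h1 : x' ∈ Set.range (pullback.fst b i) := by
    rw [Scheme.Pullback.range_fst]
    exact hx'
  obtain ⟨z, rfl⟩ := h1
  refine ⟨sq.isoPullback.inv z, ?_⟩
  rw [← Scheme.Hom.comp_apply, sq.isoPullback_inv_fst]

/-- Patching of invertible modules for `IsPatch`, once generators on `Y` lift. -/
theorem exists_patch [IsProper b] (h : IsPatch b I) [IsClosedImmersion i] (hi : i.ker = I)
    (sq : IsPullback i' π' b i) {L' : X'.Modules} {M : Y.Modules} {N : Y'.Modules}
    (hL' : PicF.IsInvertible L') (hM : PicF.IsInvertible M) (μ' : Fam i' L' N) (μ : Fam π' M N)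
    (hlift : ∀ y : Y, Groth.Agent.Pic13.H126.PatchGens.LiftsAt (π := b) (i := i) μ' μ y) :
    ∃ (L : X.Modules) (θ' : Fam b L L') (θ : Fam i L M), PicF.IsInvertible L ∧
      Compat sq.w μ' μ θ' θ :=
  Groth.Agent.Pic13.H126.PatchGens.exists_patch_of_lift (patchSq h hi sq) b.isClosedMap
    (isClosed_range i) (fib h hi) (pre sq) hL' hM μ' μ hlift

end Groth.Agent.Pic13.H17.PatchBridge
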