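import Groth.Agent.Pic13.H17.IsomDef
import Groth.Agent.Pic13.H17.FamCoprod
import Groth.Agent.Pic13.H602.RigDesc
import Groth.Agent.Pic13.H126.PatchMain
import Groth.Agent.Pic13.H955.RepDef

/-!
# The rigidified Picard functor and patching squares

`b : X' ⟶ X`, `i : Z ⟶ X` a closed immersion, `Z' = X' ×_X Z`, such that `X'_T ⟶ X_T` is a patching
morphism for all `T`. If `R_(X', w')` and `R_(Z, v)` are representable and the scheme of isomorphisms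
of invertible modules on `Z'` exists, then `R_(X, w)` is representable for `w : W' ⨿ V ⟶ X`.
-/

set_option autoImplicit false
set_option backward.isDefEq.respectTransparency false

universe u

open CategoryTheory CategoryTheory.Limits AlgebraicGeometry TopologicalSpace Opposite

namespace Groth.Agent.Pic13.H17.PatchRep

open Groth.Agent.Fdesc Groth.Agent.Fdesc.LocGen Groth.Agent.Picfga.LineHom
  Groth.Agent.Picfga.LineDescent Groth.Agent.Picfga.LineFam Groth.Agent.Picfga.HilbPull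
  Groth.Agent.Pic13.H602.FamDesc Groth.Agent.Pic13.H602.Rig Groth.Agent.Pic13.H17.FamCoprod
  Groth.Agent.Pic13.H17.IsomDef Groth.Agent.Pic13.H955.FinDesc Groth.Agent.Pic13.H955.RepDef
  Groth.Agent.Pic13.H126.Patch

/-! ### Arrows of rigidified modules -/

section arr

variable {W W' W'' Y Y' Y'' : Scheme.{u}} {σ : W ⟶ Y} {σ' : W' ⟶ Y'} {σ'' : W'' ⟶ Y''}
  {G : Y' ⟶ Y} {g : W' ⟶ W} {G' : Y'' ⟶ Y'} {g' : W'' ⟶ W'} {H : Y'' ⟶ Y} {k : W'' ⟶ W}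

lemma exists_fill_arr {w : σ' ≫ G = g ≫ σ} (w' : σ'' ≫ G' = g' ≫ σ') {w₂ : σ'' ≫ H = k ≫ σ}
    {R : RB σ} {R' : RB σ'} {R'' : RB σ''} (A : Arr w R R') (C : Arr w₂ R R'')
    (hG : G' ≫ G = H) (hg : g' ≫ g = k) : ∃ B : Arr w' R' R'', Sim (A.θ.comp B.θ) C.θ := by
  subst hG hg
  obtain ⟨B, hB⟩ := Arr.exists_fill w' w₂ A C
  exact ⟨B, Sim.of_eq (congrArg Arr.θ hB)⟩

lemma exists_comp_arr {w : σ' ≫ G = g ≫ σ} {w' : σ'' ≫ G' = g' ≫ σ'} (w₂ : σ'' ≫ H = k ≫ σ)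
    {R : RB σ} {R' : RB σ'} {R'' : RB σ''} (A : Arr w R R') (B : Arr w' R' R'')
    (hG : G' ≫ G = H) (hg : g' ≫ g = k) : ∃ C : Arr w₂ R R'', Sim C.θ (A.θ.comp B.θ) := by
  subst hG hg
  exact ⟨A.comp B w₂, Sim.refl _⟩

end arr

/-! ### Base change -/

section mT

variable {A B S : Scheme.{u}} {f' : A ⟶ S} {f : B ⟶ S} (q : A ⟶ B) (h : q ≫ f = f')

/-- `q_T : A_T ⟶ B_T`. -/
noncomputable def mT (T : Over S) : PicF.XT f' T ⟶ PicF.XT f T :=
  pullback.map f' T.hom f T.hom q (𝟙 _) (𝟙 _) (by simp [h]) (by simp)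

@[reassoc (attr := simp)]
lemma mT_fst (T : Over S) : mT q h T ≫ pullback.fst f T.hom = pullback.fst _ _ ≫ q := by
  simp [mT]

@[reassoc (attr := simp)]
lemma mT_snd (T : Over S) : mT q h T ≫ pullback.snd f T.hom = pullback.snd _ _ := by
  simp [mT]

lemma mT_XTmap {T T' : Over S} (g : T' ⟶ T) :
    mT q h T' ≫ PicF.XTmap f g = PicF.XTmap f' g ≫ mT q h T := by
  apply pullback.hom_ext
  · simp only [Category.assoc, XTmap_fst, mT_fst]
    rw [XTmap_fst_assoc]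
  · simp only [Category.assoc, XTmap_snd, mT_snd, mT_snd_assoc]

lemma isPullback_mT (T : Over S) :
    IsPullback (mT q h T) (pullback.fst f' T.hom) (pullback.fst f T.hom) q := by
  refine IsPullback.of_right (h₁₂ := pullback.snd f T.hom) (v₁₃ := T.hom) (h₂₂ := f) ?_
    (mT_fst q h T) (IsPullback.of_hasPullback f T.hom).flip
  rw [mT_snd, h]
  exact (IsPullback.of_hasPullback f' T.hom).flip

end mT

section main

variable {S X X' Z Z' W W' V : Scheme.{u}} {f : X ⟶ S} {b : X' ⟶ X} {i : Z ⟶ X} {j : Z' ⟶ X'}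
  {π : Z' ⟶ Z} {w : W ⟶ X} {w' : W' ⟶ X'} {v : V ⟶ Z} {c : W' ⟶ W} {d : V ⟶ W}

lemma isPullback_T (H : IsPullback j π b i) (hπ : π ≫ i ≫ f = j ≫ b ≫ f) (T : Over S) :
    IsPullback (wT (b ≫ f) j T) (mT π hπ T) (wT f b T) (wT f i T) := by
  have h1 : IsPullback (wT f b T) (pullback.fst _ _) (pullback.fst _ _) b := isPullback_mT b rfl T
  have h2 : IsPullback (mT π hπ T) (pullback.fst _ _) (pullback.fst _ _) π := isPullback_mT π hπ T
  refine (IsPullback.of_right (h₁₂ := pullback.fst (b ≫ f) T.hom) (v₁₃ := b)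
    (h₂₂ := pullback.fst f T.hom) ?_ ?_ h1.flip)
  · rw [wT_fst, wT_fst]
    exact h2.flip.paste_horiz H
  · apply pullback.hom_ext
    · rw [Category.assoc, Category.assoc, wT_fst, wT_fst_assoc, wT_fst, mT_fst_assoc, H.w]
    · rw [Category.assoc, Category.assoc, wT_snd, wT_snd, wT_snd, mT_snd]

lemma sqW (hc : c ≫ w ≫ f = w' ≫ b ≫ f) (hcw : c ≫ w = w' ≫ b) (T : Over S) :
    wT (b ≫ f) w' T ≫ wT f b T = mT c hc T ≫ wT f w T := by
  apply pullback.hom_ext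
  · rw [Category.assoc, Category.assoc, wT_fst, wT_fst_assoc, wT_fst, mT_fst_assoc, hcw]
  · rw [Category.assoc, Category.assoc, wT_snd, wT_snd, wT_snd, mT_snd]


lemma sqZ (hsq : j ≫ b = π ≫ i) (hπ : π ≫ i ≫ f = j ≫ b ≫ f) (T : Over S) :
    wT (b ≫ f) j T ≫ wT f b T = mT π hπ T ≫ wT f i T := by
  apply pullback.hom_ext
  · rw [Category.assoc, Category.assoc, wT_fst, wT_fst_assoc, wT_fst, mT_fst_assoc, hsq]
  · rw [Category.assoc, Category.assoc, wT_snd, wT_snd, wT_snd, mT_snd]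

/-- Arrows to the pull back to `X'_T` are compatible with base change. -/
lemma exists_arr_base {c : W' ⟶ W} (hc : c ≫ w ≫ f = w' ≫ b ≫ f) (hcw : c ≫ w = w' ≫ b)
    {T P : Over S} {g : T ⟶ P} {RP : RB (wT f w P)} {R : RB (wT f w T)}
    {R'P : RB (wT (b ≫ f) w' P)} {R' : RB (wT (b ≫ f) w' T)}
    (F : ArrT g RP R) (β' : Arr (sqW hc hcw P) RP R'P) (A' : Arr (sqW hc hcw T) R R') :
    ∃ D' : ArrT g R'P R', Sim (β'.θ.comp D'.θ) (F.θ.comp A'.θ) := by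
  have w₂ : wT (b ≫ f) w' T ≫ wT f b T ≫ PicF.XTmap f g =
      (mT c hc T ≫ PicF.XTmap (w ≫ f) g) ≫ wT f w P :=
    comp_w (wT_XTmap f w g) (sqW hc hcw T)
  obtain ⟨C, hC⟩ := exists_comp_arr w₂ F A' rfl rfl
  obtain ⟨D, hD⟩ := exists_fill_arr (wT_XTmap (b ≫ f) w' g) β' C (wT_XTmap f b g).symm
    (mT_XTmap c hc g).symm
  exact ⟨D, hD.trans hC⟩

/-- Filling of arrows over a base change. -/
lemma exists_arr_fill {c : W' ⟶ W} (hc : c ≫ w ≫ f = w' ≫ b ≫ f) (hcw : c ≫ w = w' ≫ b)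
    {T P : Over S} {g : T ⟶ P} {RP : RB (wT f w P)} {R : RB (wT f w T)}
    {R'P : RB (wT (b ≫ f) w' P)} {R' : RB (wT (b ≫ f) w' T)}
    (F : ArrT g RP R) (β' : Arr (sqW hc hcw P) RP R'P) (D' : ArrT g R'P R') :
    ∃ A' : Arr (sqW hc hcw T) R R', Sim (F.θ.comp A'.θ) (β'.θ.comp D'.θ) := by
  have w₂ : wT (b ≫ f) w' T ≫ PicF.XTmap (b ≫ f) g ≫ wT f b P =
      (PicF.XTmap (w' ≫ b ≫ f) g ≫ mT c hc P) ≫ wT f w P :=
    comp_w (sqW hc hcw P) (wT_XTmap (b ≫ f) w' g)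
  obtain ⟨C, hC⟩ := exists_comp_arr w₂ β' D' rfl rfl
  obtain ⟨A, hA⟩ := exists_fill_arr (sqW hc hcw T) F C (wT_XTmap f b g) (mT_XTmap c hc g)
  exact ⟨A, hA.trans hC⟩

variable (H : IsPullback j π b i) (hπ : π ≫ i ≫ f = j ≫ b ≫ f)
  (hc : c ≫ w ≫ f = w' ≫ b ≫ f) (hcw : c ≫ w = w' ≫ b)
  (hd : d ≫ w ≫ f = v ≫ i ≫ f) (hdw : d ≫ w = v ≫ i)

include H hπ hcw hdw in
/-- **Universality of the patched module.** -/
theorem isUniv_of_patch [IsClosedImmersion i] (hI' : Inj (b ≫ f) w') (hIZ : Inj (i ≫ f) v)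
    (hW : ∀ T : Over S, IsDisj (mT c hc T) (mT d hd T))
    (hpatch : ∀ T : Over S, H17.Patch.IsPatch (wT f b T) (wT f i T).ker)
    {Q : Over S} {R'Q : RB (wT (b ≫ f) w' Q)} {RZQ : RB (wT (i ≫ f) v Q)}
    (hQ : ∀ (T : Over S) (c' : (rigF (b ≫ f) w').obj (op T)) (cZ : (rigF (i ≫ f) v).obj (op T)),
      ∃! h : T ⟶ Q, (rigF (b ≫ f) w').map h.op R'Q.cls = c' ∧
        (rigF (i ≫ f) v).map h.op RZQ.cls = cZ)
    {N₁ N₂ : (PicF.XT (j ≫ b ≫ f) Q).Modules} (ν₁ : Fam (wT (b ≫ f) j Q) R'Q.L N₁)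
    (ν₂ : Fam (mT π hπ Q) RZQ.L N₂)
    {P : Over S} {a : P ⟶ Q} {N : (PicF.XT (j ≫ b ≫ f) P).Modules}
    {κ₁ : Fam (PicF.XTmap (j ≫ b ≫ f) a) N₁ N} {κ₂ : Fam (PicF.XTmap (j ≫ b ≫ f) a) N₂ N}
    (hIsom : IsIsom (j ≫ b ≫ f) N₁ N₂ a κ₁ κ₂)
    {RP : RB (wT f w P)} {R'P : RB (wT (b ≫ f) w' P)} {RZP : RB (wT (i ≫ f) v P)}
    (α' : ArrT a R'Q R'P) (αZ : ArrT a RZQ RZP)
    (μ' : Fam (wT (b ≫ f) j P) R'P.L N) (μ : Fam (mT π hπ P) RZP.L N)
    (hμ' : Sim (α'.θ.comp μ') (ν₁.comp κ₁)) (hμ : Sim (αZ.θ.comp μ) (ν₂.comp κ₂))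
    (β' : Arr (sqW hc hcw P) RP R'P) (βZ : Arr (sqW hd hdw P) RP RZP)
    (hβ : Sim (β'.θ.comp μ') (βZ.θ.comp μ)) :
    IsUniv (rigF f w) P RP.cls := by
  intro T x
  obtain ⟨R, rfl⟩ := exists_rep x
  obtain ⟨R', ⟨A'⟩⟩ := exists_pull R (sqW hc hcw T)
  obtain ⟨RZ, ⟨AZ⟩⟩ := exists_pull R (sqW hd hdw T)
  -- the common pull back to `Z'_T`
  let N' : (PicF.XT (j ≫ b ≫ f) T).Modules := (Scheme.Modules.pullback (wT (b ≫ f) j T)).obj R'.L
  let m' : Fam (wT (b ≫ f) j T) R'.L N' := Fam.ofIso (Iso.refl _)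
  obtain ⟨m, hm⟩ : ∃ m : Fam (mT π hπ T) RZ.L N', Sim (AZ.θ.comp m) (A'.θ.comp m') :=
    exists_fill_sim R.inv AZ.θ (A'.θ.comp m') (sqZ H.w hπ T).symm
  have hN' : PicF.IsInvertible N' := m'.isInvertible R'.inv
  -- the point of `Q`
  obtain ⟨h, ⟨hh', hhZ⟩, hhu⟩ := hQ T R'.cls RZ.cls
  obtain ⟨B'⟩ := map_cls_iff.1 hh'
  obtain ⟨BZ⟩ := map_cls_iff.1 hhZ
  obtain ⟨κ₁', hκ₁'⟩ : ∃ κ : Fam (PicF.XTmap (j ≫ b ≫ f) h) N₁ N',
      Sim (ν₁.comp κ) (B'.θ.comp m') :=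
    exists_fill_sim R'Q.inv ν₁ (B'.θ.comp m') (wT_XTmap (b ≫ f) j h).symm
  obtain ⟨κ₂', hκ₂'⟩ : ∃ κ : Fam (PicF.XTmap (j ≫ b ≫ f) h) N₂ N',
      Sim (ν₂.comp κ) (BZ.θ.comp m) :=
    exists_fill_sim RZQ.inv ν₂ (BZ.θ.comp m) (mT_XTmap π hπ h).symm
  obtain ⟨g, ⟨hg, ν, hν₁, hν₂⟩, hgu⟩ := hIsom T h N' κ₁' κ₂' hN'
  refine ⟨g, ?_, ?_⟩
  · -- existence
    have hXg : PicF.XTmap (b ≫ f) g ≫ PicF.XTmap (b ≫ f) a = PicF.XTmap (b ≫ f) h := by
      rw [← XTmap_comp, hg]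
    have hZg : PicF.XTmap (i ≫ f) g ≫ PicF.XTmap (i ≫ f) a = PicF.XTmap (i ≫ f) h := by
      rw [← XTmap_comp, hg]
    obtain ⟨D', hD'⟩ : ∃ D' : ArrT g R'P R', Sim (α'.θ.comp D'.θ) B'.θ :=
      exists_fill_arr (wT_XTmap (b ≫ f) w' g) α' B' hXg (by rw [← XTmap_comp, hg])
    obtain ⟨DZ, hDZ⟩ : ∃ DZ : ArrT g RZP RZ, Sim (αZ.θ.comp DZ.θ) BZ.θ :=
      exists_fill_arr (wT_XTmap (i ≫ f) v g) αZ BZ hZg (by rw [← XTmap_comp, hg])
    have k' : Sim (D'.θ.comp m') (μ'.comp ν) := by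
      refine Sim.cancel R'Q.inv α'.θ (wT_XTmap (b ≫ f) j g) ?_
      exact (hD'.comp_left m').trans (hκ₁'.symm.trans ((hν₁.symm.comp_right ν₁).trans
        (hμ'.symm.comp_left ν)))
    have kZ : Sim (DZ.θ.comp m) (μ.comp ν) := by
      refine Sim.cancel RZQ.inv αZ.θ (mT_XTmap π hπ g) ?_
      exact (hDZ.comp_left m).trans (hκ₂'.symm.trans ((hν₂.symm.comp_right ν₂).trans
        (hμ.symm.comp_left ν)))
    obtain ⟨RT, ⟨C⟩⟩ := exists_arrT g RP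
    obtain ⟨E', hE'⟩ := exists_arr_fill hc hcw C β' D'
    obtain ⟨EZ, hEZ⟩ := exists_arr_fill hd hdw C βZ DZ
    have hE : Sim (E'.θ.comp m') (EZ.θ.comp m) := by
      refine Sim.cancel RP.inv C.θ (sqZ H.w hπ T) ?_
      refine (hE'.comp_left m').trans ?_
      refine (k'.comp_right β'.θ).trans ?_
      refine (hβ.comp_left ν).trans ?_
      refine (kZ.symm.comp_right βZ.θ).trans ?_
      exact (hEZ.symm.comp_left m)
    have HT := isPullback_T H hπ T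
    have hiT : IsClosedImmersion (wT f i T) :=
      MorphismProperty.of_isPullback (isPullback_mT i rfl T).flip inferInstance
    obtain ⟨ψ, ⟨hψ', hψZ⟩, -⟩ := H126.PatchMain.exists_unique_iso HT (hpatch T) RT.inv R.inv
      (μ' := m') (μ := m) hE.2 hm.symm.2
    let φ : Fam (𝟙 _) RT.L R.L := idFam ψ
    have h1 : Sim (φ.comp A'.θ) E'.θ := by
      refine ⟨Category.comp_id _, Fam.ext' fun U s ↦ ?_⟩
      rw [Fam.cast_map]
      exact (res_refl _ _).trans (hψ' U s)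
    have h2 : Sim (φ.comp AZ.θ) EZ.θ := by
      refine ⟨Category.comp_id _, Fam.ext' fun U s ↦ ?_⟩
      rw [Fam.cast_map]
      exact (res_refl _ _).trans (hψZ U s)
    have hO : PicF.IsInvertible (Coh.structureModule (PicF.XT (w ≫ f) T)) := by
      rw [isInvertible_iff]
      exact fun y ↦ ⟨⊤, one ⊤, trivial, isGen_one ⊤⟩
    have key : Sim (φ.comp R.ρ) (RT.ρ.comp (Fam.can (𝟙 _))) := by
      refine ⟨by simp, ?_⟩
      refine (hW T).fam_ext (Fam.can _) (Fam.can _) hO ?_ ?_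
      · refine ((Sim.cast_left _).comp_left _).trans ?_
        refine ((((isArr_iff_sim _).1 A'.isArr).symm).comp_right φ).trans ?_
        refine (h1.comp_left R'.ρ).trans ?_
        refine ((isArr_iff_sim _).1 E'.isArr).trans ?_
        exact Sim.comp_right RT.ρ (can_comp_can (𝟙 _) (mT c hc T) (Category.comp_id _)).symm
      · refine ((Sim.cast_left _).comp_left _).trans ?_
        refine ((((isArr_iff_sim _).1 AZ.isArr).symm).comp_right φ).trans ?_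
        refine (h2.comp_left RZ.ρ).trans ?_
        refine ((isArr_iff_sim _).1 EZ.isArr).trans ?_
        exact Sim.comp_right RT.ρ (can_comp_can (𝟙 _) (mT d hd T) (Category.comp_id _)).symm
    exact map_cls_iff.2 (arr_rel ⟨C⟩ ⟨⟨φ, (isArr_iff_sim _).2 key⟩⟩)
  · -- uniqueness
    intro g' hg'
    apply hgu
    obtain ⟨F⟩ := map_cls_iff.1 hg'
    obtain ⟨D', hD'⟩ := exists_arr_base hc hcw F β' A'
    obtain ⟨DZ, hDZ⟩ := exists_arr_base hd hdw F βZ AZ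
    have hga : g' ≫ a = h := by
      apply hhu
      constructor
      · exact (ArrT.comp α' D' rfl).map_cls
      · exact (ArrT.comp αZ DZ rfl).map_cls
    have e' : Sim (α'.θ.comp D'.θ) B'.θ :=
      (ArrT.sim_comp_θ α' D' hga).symm.trans (ArrT.sim hI' (ArrT.comp α' D' hga) B' rfl)
    have eZ : Sim (αZ.θ.comp DZ.θ) BZ.θ :=
      (ArrT.sim_comp_θ αZ DZ hga).symm.trans (ArrT.sim hIZ (ArrT.comp αZ DZ hga) BZ rfl)
    obtain ⟨ν', hν'⟩ : ∃ ν' : Fam (PicF.XTmap (j ≫ b ≫ f) g') N N',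
        Sim (μ'.comp ν') (D'.θ.comp m') :=
      exists_fill_sim R'P.inv μ' (D'.θ.comp m') (wT_XTmap (b ≫ f) j g').symm
    have hνZ : Sim (μ.comp ν') (DZ.θ.comp m) := by
      refine Sim.cancel RP.inv βZ.θ (mT_XTmap π hπ g').symm ?_
      refine (hβ.symm.comp_left ν').trans ?_
      refine (hν'.comp_right β'.θ).trans ?_
      refine (hD'.comp_left m').trans ?_
      refine (hm.symm.comp_right F.θ).trans ?_
      exact (hDZ.symm.comp_left m)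
    have hXh : PicF.XTmap (j ≫ b ≫ f) g' ≫ PicF.XTmap (j ≫ b ≫ f) a =
        PicF.XTmap (j ≫ b ≫ f) h := by
      rw [← XTmap_comp, hga]
    refine ⟨hga, ν', ?_, ?_⟩
    · refine Sim.cancel R'Q.inv ν₁ hXh ?_
      refine (hμ'.symm.comp_left ν').trans ?_
      refine (hν'.comp_right α'.θ).trans ?_
      exact (e'.comp_left m').trans hκ₁'.symm
    · refine Sim.cancel RZQ.inv ν₂ hXh ?_
      refine (hμ.symm.comp_left ν').trans ?_
      refine (hνZ.comp_right αZ.θ).trans ?_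
      exact (eZ.comp_left m).trans hκ₂'.symm

include H hπ hcw hdw in
/-- **Representability of the rigidified functor from a patching square.** -/
theorem repW_of_patch [IsClosedImmersion i] [IsProper b] [LocallyOfFiniteType f]
    [IsLocallyNoetherian S] (hI' : Inj (b ≫ f) w') (hIZ : Inj (i ≫ f) v)
    (hW : ∀ T : Over S, IsDisj (mT c hc T) (mT d hd T))
    (hpatch : ∀ T : Over S, H17.Patch.IsPatch (wT f b T) (wT f i T).ker)
    (hIsom : ∀ (T : Over S), IsLocallyNoetherian T.left →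
      ∀ L₁ L₂ : (PicF.XT (j ≫ b ≫ f) T).Modules, PicF.IsInvertible L₁ → PicF.IsInvertible L₂ →
      ∃ (I : Over S) (a : I ⟶ T) (N : (PicF.XT (j ≫ b ≫ f) I).Modules)
        (κ₁ : Fam (PicF.XTmap (j ≫ b ≫ f) a) L₁ N) (κ₂ : Fam (PicF.XTmap (j ≫ b ≫ f) a) L₂ N),
        LocallyOfFiniteType a.left ∧ IsIsom (j ≫ b ≫ f) L₁ L₂ a κ₁ κ₂)
    (h' : RepW (b ≫ f) w') (hZ : RepW (i ≫ f) v) : RepW f w := by
  obtain ⟨P', ξ', hP', hlft'⟩ := h'
  obtain ⟨PZ, ξZ, hPZ, hlftZ⟩ := hZ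
  let Q : Over S := Over.mk (pullback.fst P'.hom PZ.hom ≫ P'.hom)
  let q₁ : Q ⟶ P' := Over.homMk (pullback.fst _ _) rfl
  let q₂ : Q ⟶ PZ := Over.homMk (pullback.snd _ _) (pullback.condition).symm
  have hlftQ : LocallyOfFiniteType Q.hom := by
    change LocallyOfFiniteType (pullback.fst P'.hom PZ.hom ≫ P'.hom)
    infer_instance
  have hNQ : IsLocallyNoetherian Q.left := LocallyOfFiniteType.isLocallyNoetherian Q.hom
  obtain ⟨R'Q, hR'Q⟩ := exists_rep ((rigF (b ≫ f) w').map q₁.op ξ')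
  obtain ⟨RZQ, hRZQ⟩ := exists_rep ((rigF (i ≫ f) v).map q₂.op ξZ)
  have hQ : ∀ (T : Over S) (c' : (rigF (b ≫ f) w').obj (op T))
      (cZ : (rigF (i ≫ f) v).obj (op T)),
      ∃! h : T ⟶ Q, (rigF (b ≫ f) w').map h.op R'Q.cls = c' ∧
        (rigF (i ≫ f) v).map h.op RZQ.cls = cZ := by
    intro T c' cZ
    obtain ⟨g', hg', hgu'⟩ := hP' T c'
    obtain ⟨gZ, hgZ, hguZ⟩ := hPZ T cZ
    have hc : g'.left ≫ P'.hom = gZ.left ≫ PZ.hom := by rw [Over.w, Over.w]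
    let h : T ⟶ Q := Over.homMk (pullback.lift g'.left gZ.left hc) (by
      change pullback.lift g'.left gZ.left hc ≫ pullback.fst _ _ ≫ P'.hom = _
      rw [pullback.lift_fst_assoc, Over.w])
    have h1 : h ≫ q₁ = g' := by
      ext
      exact pullback.lift_fst _ _ _
    have h2 : h ≫ q₂ = gZ := by
      ext
      exact pullback.lift_snd _ _ _
    refine ⟨h, ⟨?_, ?_⟩, ?_⟩
    · rw [hR'Q, ← Picfga.OverRep.map_comp_apply, h1]
      exact hg'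
    · rw [hRZQ, ← Picfga.OverRep.map_comp_apply, h2]
      exact hgZ
    · rintro k ⟨hk', hkZ⟩
      rw [hR'Q, ← Picfga.OverRep.map_comp_apply] at hk'
      rw [hRZQ, ← Picfga.OverRep.map_comp_apply] at hkZ
      have e1 := (hgu' _ hk').trans h1.symm
      have e2 := (hguZ _ hkZ).trans h2.symm
      ext
      apply pullback.hom_ext
      · exact congrArg CommaMorphism.left e1
      · exact congrArg CommaMorphism.left e2
  -- the modules on `Z'_Q`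
  let N₁ : (PicF.XT (j ≫ b ≫ f) Q).Modules :=
    (Scheme.Modules.pullback (wT (b ≫ f) j Q)).obj R'Q.L
  let ν₁ : Fam (wT (b ≫ f) j Q) R'Q.L N₁ := Fam.ofIso (Iso.refl _)
  let N₂ : (PicF.XT (j ≫ b ≫ f) Q).Modules :=
    (Scheme.Modules.pullback (mT π hπ Q)).obj RZQ.L
  let ν₂ : Fam (mT π hπ Q) RZQ.L N₂ := Fam.ofIso (Iso.refl _)
  obtain ⟨P, a, N, κ₁, κ₂, hlfta, hPI⟩ := hIsom Q hNQ N₁ N₂ (ν₁.isInvertible R'Q.inv)
    (ν₂.isInvertible RZQ.inv)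
  have hlftP : LocallyOfFiniteType P.hom := by
    rw [← Over.w a]
    infer_instance
  have hNP : IsLocallyNoetherian P.left := LocallyOfFiniteType.isLocallyNoetherian P.hom
  have hNX : IsLocallyNoetherian (PicF.XT f P) :=
    LocallyOfFiniteType.isLocallyNoetherian (pullback.snd f P.hom)
  obtain ⟨R'P, ⟨α'⟩⟩ := exists_arrT a R'Q
  obtain ⟨RZP, ⟨αZ⟩⟩ := exists_arrT a RZQ
  obtain ⟨μ', hμ'⟩ : ∃ μ' : Fam (wT (b ≫ f) j P) R'P.L N, Sim (α'.θ.comp μ') (ν₁.comp κ₁) :=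
    exists_fill_sim R'Q.inv α'.θ (ν₁.comp κ₁) (wT_XTmap (b ≫ f) j a)
  obtain ⟨μ, hμ⟩ : ∃ μ : Fam (mT π hπ P) RZP.L N, Sim (αZ.θ.comp μ) (ν₂.comp κ₂) :=
    exists_fill_sim RZQ.inv αZ.θ (ν₂.comp κ₂) (mT_XTmap π hπ a)
  have HP := isPullback_T H hπ P
  have hiP : IsClosedImmersion (wT f i P) :=
    MorphismProperty.of_isPullback (isPullback_mT i rfl P).flip inferInstance
  have hbP : IsProper (wT f b P) :=
    MorphismProperty.of_isPullback (isPullback_mT b rfl P).flip inferInstance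
  obtain ⟨L, θ', θ, hL, hθ⟩ := H126.PatchMain.exists_patch_of_isPullback HP (hpatch P)
    R'P.inv RZP.inv μ' μ
  have hO : PicF.IsInvertible (Coh.structureModule (PicF.XT (w ≫ f) P)) := by
    rw [isInvertible_iff]
    exact fun y ↦ ⟨⊤, one ⊤, trivial, isGen_one ⊤⟩
  obtain ⟨ρ, hρ', hρZ⟩ := (hW P).exists_fam (Fam.can _) (Fam.can _) hO (σ := wT f w P) (L := L)
    ((θ'.comp R'P.ρ).cast (sqW hc hcw P)) ((θ.comp RZP.ρ).cast (sqW hd hdw P))
  let RP : RB (wT f w P) := ⟨L, hL, ρ⟩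
  let β' : Arr (sqW hc hcw P) RP R'P := ⟨θ', (isArr_iff_sim _).2
    ((Sim.cast_right (sqW hc hcw P)).trans (Sim.of_eq hρ'.symm))⟩
  let βZ : Arr (sqW hd hdw P) RP RZP := ⟨θ, (isArr_iff_sim _).2
    ((Sim.cast_right (sqW hd hdw P)).trans (Sim.of_eq hρZ.symm))⟩
  exact ⟨P, RP.cls, isUniv_of_patch H hπ hc hcw hd hdw hI' hIZ hW hpatch hQ ν₁ ν₂ hPI α' αZ μ' μ
    hμ' hμ β' βZ ⟨HP.w, hθ⟩, hlftP⟩

end main

end Groth.Agent.Pic13.H17.PatchRep
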