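import Groth.Agent.Pic13.H17.PatchRep
import Groth.Agent.Pic13.H945.PatchBC
import Groth.Agent.Pic13.H602.Rule0

/-!
# The rule (patch) of the devissage over a field
-/

set_option autoImplicit false
set_option backward.isDefEq.respectTransparency false

universe u

open CategoryTheory CategoryTheory.Limits AlgebraicGeometry TopologicalSpace Opposite

namespace Groth.Agent.Pic13.H17.PatchRule

open Groth.Agent.Pic13.H602.Rig Groth.Agent.Pic13.H17.FamCoprod Groth.Agent.Pic13.H17.PatchRep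
  Groth.Agent.Pic13.H955.FinDesc Groth.Agent.Pic13.H955.RepDef

variable {k : Type u} [Field k] {X X' : Scheme.{u}}

/-- Base change of a patching morphism over a field. -/
theorem isPatch_wT (f : X ⟶ Spec (CommRingCat.of k)) (b : X' ⟶ X) [QuasiCompact b] [IsSeparated b]
    (I : X.IdealSheafData) (h : H17.Patch.IsPatch b I) (T : Over (Spec (CommRingCat.of k))) :
    H17.Patch.IsPatch (wT f b T) (wT f I.subschemeι T).ker := by
  have h1 := H126.PatchMain.ker_eq_of_isPullback (isPullback_mT I.subschemeι rfl (f := f) T)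
  rw [Scheme.IdealSheafData.ker_subschemeι] at h1
  change H17.Patch.IsPatch (wT f b T) (mT I.subschemeι rfl T).ker
  rw [h1]
  exact H945.PatchBC.isPatch_of_flat (isPullback_mT b rfl T).flip h

/-- **Rule (patch).** -/
theorem rep_of_patch (hIsom : H602.Rule0.IsomStmt.{u}) (f : X ⟶ Spec (CommRingCat.of k))
    (b : X' ⟶ X) (I : X.IdealSheafData) [IsProper f] [IsProper b] (h : H17.Patch.IsPatch b I)
    (h' : Rep (b ≫ f)) (hZ : Rep (I.subschemeι ≫ f)) : Rep f := by
  obtain ⟨W', w', hfin', hinj', hrep'⟩ := h'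
  obtain ⟨V, v, hfinZ, hinjZ, hrepZ⟩ := hZ
  let w : W' ⨿ V ⟶ X := coprod.desc (w' ≫ b) (v ≫ I.subschemeι)
  have hcw : (coprod.inl : W' ⟶ W' ⨿ V) ≫ w = w' ≫ b := coprod.inl_desc _ _
  have hdw : (coprod.inr : V ⟶ W' ⨿ V) ≫ w = v ≫ I.subschemeι := coprod.inr_desc _ _
  have hc : (coprod.inl : W' ⟶ W' ⨿ V) ≫ w ≫ f = w' ≫ b ≫ f := by rw [reassoc_of% hcw]
  have hd : (coprod.inr : V ⟶ W' ⨿ V) ≫ w ≫ f = v ≫ I.subschemeι ≫ f := by rw [reassoc_of% hdw]
  have H := IsPullback.of_hasPullback b I.subschemeι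
  have hπ : pullback.snd b I.subschemeι ≫ I.subschemeι ≫ f =
      pullback.fst b I.subschemeι ≫ b ≫ f := by rw [← H.w_assoc]
  have hker : I.subschemeι.ker = I := Scheme.IdealSheafData.ker_subschemeι I
  have hsq := H126.PatchMain.patchSq_of_isPullback H (by rwa [hker])
  refine ⟨W' ⨿ V, w, ?_, ?_, ?_⟩
  · have e : w ≫ f = coprod.desc (w' ≫ b ≫ f) (v ≫ I.subschemeι ≫ f) := by
      apply coprod.hom_ext
      · rw [hc, coprod.inl_desc]
      · rw [hd, coprod.inr_desc]
    rw [e]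
    infer_instance
  · rw [injective_iff_map_eq_zero]
    intro a ha
    have e1 := congr($(congrArg Scheme.Hom.appTop hcw) a)
    have e2 := congr($(congrArg Scheme.Hom.appTop hdw) a)
    have e1' : (coprod.inl : W' ⟶ W' ⨿ V).appTop (w.appTop a) = w'.appTop (b.appTop a) := by
      simpa using e1
    have e2' : (coprod.inr : V ⟶ W' ⨿ V).appTop (w.appTop a) = v.appTop (I.subschemeι.appTop a) := by
      simpa using e2
    have ha' : w.appTop a = 0 := ha
    rw [ha', map_zero] at e1' e2'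
    have h1 : b.appTop a = 0 := hinj' (by rw [map_zero]; exact e1'.symm)
    have h2 : I.subschemeι.appTop a = 0 := hinjZ (by rw [map_zero]; exact e2'.symm)
    exact hsq.inj ⊤ a h1 h2
  · have : IsFinite (w' ≫ b ≫ f) := hfin'
    have : IsFinite (v ≫ I.subschemeι ≫ f) := hfinZ
    refine repW_of_patch H hπ hc hcw hd hdw (inj_of_isFinite _ _ hfin' hinj')
      (inj_of_isFinite _ _ hfinZ hinjZ) (fun T ↦ ?_) (isPatch_wT f b I h) ?_ hrep' hrepZ
    · exact (isDisj_coprod W' V).of_isPullback (isPullback_mT _ hc T).flip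
        (isPullback_mT _ hd T).flip
    · intro T hT L₁ L₂ hL₁ hL₂
      obtain ⟨J, a, N, κ₁, κ₂, -, h2, h3⟩ := hIsom (pullback.fst b I.subschemeι ≫ b ≫ f) T hL₁ hL₂
      exact ⟨J, a, N, κ₁, κ₂, h2, h3⟩

end Groth.Agent.Pic13.H17.PatchRule
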